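import Groth.Prelude.Def_Algz
import Groth.Agent.Lib.FormalH7.ModPow
import Groth.Agent.Lib.DPerf.Coprod
import Groth.Agent.Lib.ModM1.Coh

/-!
# Completions of modules: functoriality, restriction, coherence
-/

set_option autoImplicit false
universe u

open CategoryTheory CategoryTheory.Limits AlgebraicGeometry Opposite

noncomputable section

namespace Groth.Agent.Algz27C

open Groth.Agent.FormalH7

theorem smulMod_modPowπ {A : Type u} [CommRing A] {X : Scheme.{u}} [X.Over (Spec (CommRingCat.of A))] (I : Ideal A)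
    (n : ℕ) (M : X.Modules) {a : A} (ha : a ∈ I ^ n) : Formal.smulMod A M a ≫ Formal.modPowπ I n M = 0 :=
  (smulFamily_comp_eq_zero_iff _).1 (cokernel.condition _) a ha

@[reassoc]
theorem modPowπ_trans' {A : Type u} [CommRing A] {X : Scheme.{u}} [X.Over (Spec (CommRingCat.of A))] (I : Ideal A)
    (n : ℕ) (M : X.Modules) :
    Formal.modPowπ I (n + 1) M ≫ Formal.modPowTrans I n M = Formal.modPowπ I n M :=
  cokernel.π_desc _ _ _

variable {A : Type u} [CommRing A] {X Y : Scheme.{u}} [X.Over (Spec (CommRingCat.of A))]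
  [Y.Over (Spec (CommRingCat.of A))] (I : Ideal A)

/-- `modPow` on morphisms. -/
def modPowMap (n : ℕ) {M M' : X.Modules} (φ : M ⟶ M') : Formal.modPow I n M ⟶ Formal.modPow I n M' :=
  cokernel.desc _ (φ ≫ Formal.modPowπ I n M') ((smulFamily_comp_eq_zero_iff _).2 fun a ha => by
    rw [smulMod_naturality_assoc, smulMod_modPowπ I n M' ha, comp_zero])

@[reassoc]
theorem modPowπ_map (n : ℕ) {M M' : X.Modules} (φ : M ⟶ M') :
    Formal.modPowπ I n M ≫ modPowMap I n φ = φ ≫ Formal.modPowπ I n M' := cokernel.π_desc _ _ _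

theorem modPowTrans_naturality (n : ℕ) {M M' : X.Modules} (φ : M ⟶ M') :
    Formal.modPowTrans I n M ≫ modPowMap I n φ = modPowMap I (n + 1) φ ≫ Formal.modPowTrans I n M' := by
  rw [← cancel_epi (Formal.modPowπ I (n + 1) M), modPowπ_trans'_assoc, modPowπ_map, modPowπ_map_assoc,
    modPowπ_trans']

theorem completion_map (M : X.Modules) (n : ℕ) :
    (Formal.completion I M).map (homOfLE (Nat.le_succ n)).op = Formal.modPowTrans I (n + 1) M := by
  show (Functor.ofOpSequence (X := fun n => Formal.modPow I (n + 1) M) (fun n => Formal.modPowTrans I (n + 1) M)).map _ = _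
  exact Functor.ofOpSequence_map_homOfLE_succ _ n

/-- `modPow` on isomorphisms. -/
def modPowIso (n : ℕ) {M M' : X.Modules} (e : M ≅ M') : Formal.modPow I n M ≅ Formal.modPow I n M' where
  hom := modPowMap I n e.hom
  inv := modPowMap I n e.inv
  hom_inv_id := by
    rw [← cancel_epi (Formal.modPowπ I n M), modPowπ_map_assoc, modPowπ_map, Category.comp_id, e.hom_inv_id_assoc]
  inv_hom_id := by
    rw [← cancel_epi (Formal.modPowπ I n M'), modPowπ_map_assoc, modPowπ_map, Category.comp_id, e.inv_hom_id_assoc]

/-- `modPowMap` as a morphism of completions. -/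
def completionHom {M M' : X.Modules} (φ : M ⟶ M') : Formal.completion I M ⟶ Formal.completion I M' :=
  NatTrans.ofOpSequence (fun n => modPowMap I (n + 1) φ) fun n =>
    (congrArg (· ≫ modPowMap I (n + 1) φ) (completion_map I M n)).trans
      ((modPowTrans_naturality I (n + 1) φ).trans
        (congrArg (modPowMap I (n + 1 + 1) φ ≫ ·) (completion_map I M' n).symm))

theorem isIso_completionHom {M M' : X.Modules} (e : M ≅ M') : IsIso (completionHom I e.hom) := by
  haveI : ∀ k : ℕᵒᵖ, IsIso ((completionHom I e.hom).app k) := fun k => by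
    obtain ⟨n⟩ := k
    show IsIso (modPowMap I (n + 1) e.hom)
    exact (modPowIso I (n + 1) e).isIso_hom
  exact NatIso.isIso_of_isIso_app _

/-- The completion on isomorphisms. -/
def completionIso {M M' : X.Modules} (e : M ≅ M') : Formal.completion I M ≅ Formal.completion I M' :=
  @asIso _ _ _ _ _ (isIso_completionHom I e)

variable (j : X ⟶ Y) (hj : j ≫ (Y ↘ Spec (CommRingCat.of A)) = X ↘ Spec (CommRingCat.of A))

include hj in
theorem nonempty_completion_pullback (M : Y.Modules) :
    Nonempty (Formal.completion I M ⋙ Scheme.Modules.pullback j ≅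
      Formal.completion I ((Scheme.Modules.pullback j).obj M)) := by
  have h : ∀ n, ∃ h' : Formal.smulFamily (I ^ n) ((Scheme.Modules.pullback j).obj M) ≫
      (Scheme.Modules.pullback j).map (Formal.modPowπ I n M) = 0, IsIso (cokernel.desc _ _ h') := fun n =>
    isQuot_pullback j hj (Formal.modPowπ I n M) (cokernel.condition _)
      (by
        have h0 : cokernel.desc (Formal.smulFamily (I ^ n) M) (Formal.modPowπ I n M) (cokernel.condition _) = 𝟙 _ := by
          refine (cancel_epi (cokernel.π _)).1 ((cokernel.π_desc _ _ _).trans ?_)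
          exact (Category.comp_id _).symm
        rw [h0]
        exact IsIso.id _)
  choose h' hiso using h
  let ψ : ∀ n : ℕ, Formal.modPow I n ((Scheme.Modules.pullback j).obj M) ⟶
      (Scheme.Modules.pullback j).obj (Formal.modPow I n M) := fun n => cokernel.desc _ _ (h' n)
  have hπ : ∀ n, Formal.modPowπ I n ((Scheme.Modules.pullback j).obj M) ≫ ψ n =
      (Scheme.Modules.pullback j).map (Formal.modPowπ I n M) := fun n => cokernel.π_desc _ _ _
  have hsq : ∀ n, Formal.modPowTrans I n ((Scheme.Modules.pullback j).obj M) ≫ ψ n =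
      ψ (n + 1) ≫ (Scheme.Modules.pullback j).map (Formal.modPowTrans I n M) := fun n => by
    rw [← cancel_epi (Formal.modPowπ I (n + 1) _), modPowπ_trans'_assoc, hπ, reassoc_of% (hπ (n + 1)),
      ← Functor.map_comp, modPowπ_trans']
  let α : Formal.completion I ((Scheme.Modules.pullback j).obj M) ⟶
      Formal.completion I M ⋙ Scheme.Modules.pullback j :=
    NatTrans.ofOpSequence (fun n => ψ (n + 1)) fun n => by
      refine (congrArg (· ≫ ψ (n + 1)) (completion_map I ((Scheme.Modules.pullback j).obj M) n)).trans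
        ((hsq (n + 1)).trans (congrArg (fun t => ψ (n + 1 + 1) ≫ (Scheme.Modules.pullback j).map t)
          (completion_map I M n).symm))
  haveI : ∀ k : ℕᵒᵖ, IsIso (α.app k) := fun ⟨n⟩ => hiso (n + 1)
  haveI := NatIso.isIso_of_isIso_app α
  exact ⟨(asIso α).symm⟩

include hj in
theorem nonempty_completion_restrict [IsOpenImmersion j] (M : Y.Modules) :
    Nonempty (Formal.completion I M ⋙ Scheme.Modules.restrictFunctor j ≅
      Formal.completion I (M.restrict j)) := by
  obtain ⟨e⟩ := nonempty_completion_pullback I j hj M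
  exact ⟨Functor.isoWhiskerLeft _ (Scheme.Modules.restrictFunctorIsoPullback j) ≪≫ e ≪≫
    completionIso I ((Scheme.Modules.restrictFunctorIsoPullback j).app M).symm⟩

omit hj

theorem isCoh_modPow [IsLocallyNoetherian Y] (n : ℕ) {M : Y.Modules} (hM : Coh.IsCoh M) :
    Coh.IsCoh (Formal.modPow I n M) :=
  M1.isCoh_cokernel (M1.isQCoh_of_isColimit (fun _ => hM.1) (colimit.isColimit _)) hM _

theorem killedBy_completion (n : ℕ) (M : Y.Modules) :
    Formal.KilledBy (I ^ (n + 1)) ((Formal.completion I M).obj (op n)) := killedBy_modPow I (n + 1) M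

theorem isQuot_completion (n : ℕ) (M : Y.Modules) :
    ∃ h : Formal.smulFamily (I ^ (n + 1)) ((Formal.completion I M).obj (op (n + 1))) ≫
      (Formal.completion I M).map (homOfLE (Nat.le_succ n)).op = 0, IsIso (cokernel.desc _ _ h) := by
  have hmap := completion_map I M n
  have h : Formal.smulFamily (I ^ (n + 1)) ((Formal.completion I M).obj (op (n + 1))) ≫
      (Formal.completion I M).map (homOfLE (Nat.le_succ n)).op = 0 :=
    smulFamily_comp_of_killed _ (killedBy_completion I n M)
  refine ⟨h, ?_⟩
  have h1 : Formal.smulFamily (I ^ (n + 1)) M ≫ Formal.modPowπ I (n + 1 + 1) M ≫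
      cokernel.π (Formal.smulFamily (I ^ (n + 1)) (Formal.modPow I (n + 1 + 1) M)) = 0 := by
    refine (smulFamily_comp_eq_zero_iff _).2 fun a ha => ?_
    rw [smulMod_naturality_assoc, (smulFamily_comp_eq_zero_iff _).1 (cokernel.condition _) a ha, comp_zero]
  have h2 : Formal.modPowπ I (n + 1 + 1) M ≫ (Formal.completion I M).map (homOfLE (Nat.le_succ n)).op =
      Formal.modPowπ I (n + 1) M := by
    rw [hmap]; exact Formal.modPowπ_trans I (n + 1) M
  refine ⟨cokernel.desc _ _ h1, ?_, ?_⟩
  · refine (cancel_epi (cokernel.π _)).1 ?_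
    refine (cancel_epi (Formal.modPowπ I (n + 1 + 1) M)).1 ?_
    rw [cokernel.π_desc_assoc, Category.comp_id]
    erw [reassoc_of% h2, cokernel.π_desc]
    rfl
  · refine (cancel_epi (Formal.modPowπ I (n + 1) M)).1 ?_
    erw [cokernel.π_desc_assoc, Category.assoc, cokernel.π_desc, h2, Category.comp_id]

theorem isCohFormal_completion [IsLocallyNoetherian Y] {M : Y.Modules} (hM : Coh.IsCoh M) :
    Formal.IsCohFormal I (Formal.completion I M) :=
  ⟨fun n => isCoh_modPow I (n + 1) hM, fun n => killedBy_completion I n M, fun n => isQuot_completion I n M⟩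

end Groth.Agent.Algz27C
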