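import Groth.Agent.Lib.Algz27.Completion27
import Groth.Agent.Lib.PunctFree27.Scheme
import Groth.Agent.Lib.FormalH7.ModSec
import Groth.Agent.Lib.AdicLimH7.Finite
import Groth.Agent.Lib.ModM1.Fpqc

/-!
# Coherent formal modules on the spectrum of an adically complete ring are completions
-/

set_option autoImplicit false
universe u

open CategoryTheory CategoryTheory.Limits AlgebraicGeometry Opposite

noncomputable section

namespace Groth.Agent.Algz27C

open Groth.Agent.FormalH7

/-- The spectrum of a ring over itself by the identity. -/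
abbrev selfOver (A : Type u) [CommRing A] : (Spec (CommRingCat.of A)).Over (Spec (CommRingCat.of A)) :=
  ⟨𝟙 (Spec (CommRingCat.of A))⟩

attribute [local instance] selfOver

variable {A : Type u} [CommRing A]

section generic

variable {R : CommRingCat.{u}} (J : Ideal R) {M N : ModuleCat.{u} R} (p : M ⟶ N)

theorem smulModΓ_tilde_map (hker : LinearMap.ker p.hom = (J • ⊤ : Submodule R M)) {a : R} (ha : a ∈ J) :
    Formal.smulModΓ (tilde M) ((Scheme.ΓSpecIso R).inv a) ≫ (tilde.functor R).map p = 0 := by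
  rw [← PunctFree27.tilde_map_smul]
  refine ((tilde.functor R).map_comp _ _).symm.trans ?_
  have h0 : (ModuleCat.ofHom (a • LinearMap.id : M →ₗ[R] M) : M ⟶ M) ≫ p = 0 := by
    refine ModuleCat.hom_ext (LinearMap.ext fun x => ?_)
    exact LinearMap.mem_ker.1 (hker.ge (Submodule.smul_mem_smul ha (show x ∈ (⊤ : Submodule R M) from Submodule.mem_top)))
  exact (congrArg (fun t => (tilde.functor R).map t) h0).trans (Functor.map_zero _ _ _)

theorem epi_tilde_map (hp : Function.Surjective p) : Epi ((tilde.functor R).map p) := by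
  haveI : (tilde.functor R).PreservesEpimorphisms := Functor.preservesEpimorphisms_of_adjunction (tilde.adjunction (R := R))
  haveI : Epi p := (ModuleCat.epi_iff_surjective p).2 hp
  infer_instance

theorem exists_fac_quot (hp : Function.Surjective p) (hker : LinearMap.ker p.hom = (J • ⊤ : Submodule R M))
    {Q : ModuleCat.{u} R} (q : M ⟶ Q)
    (hq : ∀ a ∈ J, (ModuleCat.ofHom (a • LinearMap.id : M →ₗ[R] M) : M ⟶ M) ≫ q = 0) :
    ∃ r : N ⟶ Q, p ≫ r = q := by
  have hle : LinearMap.ker p.hom ≤ LinearMap.ker q.hom :=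
    hker.le.trans (Submodule.smul_le.2 fun a ha x _ => congrArg (fun t : M ⟶ Q => t.hom x) (hq a ha))
  refine ⟨ModuleCat.ofHom (((LinearMap.ker p.hom).liftQ q.hom hle).comp
      (LinearMap.quotKerEquivOfSurjective p.hom hp).symm.toLinearMap), ?_⟩
  refine ModuleCat.hom_ext (LinearMap.ext fun x => ?_)
  show ((LinearMap.ker p.hom).liftQ q.hom hle) ((LinearMap.quotKerEquivOfSurjective p.hom hp).symm (p.hom x)) = _
  rw [LinearMap.quotKerEquivOfSurjective_symm_apply]
  rfl

theorem exists_tilde_desc (hp : Function.Surjective p) (hker : LinearMap.ker p.hom = (J • ⊤ : Submodule R M))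
    {C : (Spec R).Modules} (c : tilde M ⟶ C)
    (hc : ∀ a ∈ J, Formal.smulModΓ (tilde M) ((Scheme.ΓSpecIso R).inv a) ≫ c = 0) :
    ∃ d : tilde N ⟶ C, (tilde.functor R).map p ≫ d = c := by
  let adj := tilde.adjunction (R := R)
  let q : M ⟶ moduleSpecΓFunctor.obj C := adj.homEquiv _ _ c
  have hq : ∀ a ∈ J, (ModuleCat.ofHom (a • LinearMap.id : M →ₗ[R] M) : M ⟶ M) ≫ q = 0 := fun a ha => by
    refine (adj.homEquiv M C).symm.injective ?_
    refine (adj.homEquiv_naturality_left_symm _ _).trans ?_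
    refine ((congrArg (_ ≫ ·) (Equiv.symm_apply_apply _ c)).trans ((congrArg (· ≫ c) (PunctFree27.tilde_map_smul M a)).trans (hc a ha))).trans ?_
    exact (((adj.homEquiv_counit M C (0 : M ⟶ moduleSpecΓFunctor.obj C))).trans ((congrArg (· ≫ adj.counit.app C) ((tilde.functor R).map_zero M (moduleSpecΓFunctor.obj C))).trans zero_comp)).symm
  obtain ⟨r, hr⟩ := exists_fac_quot J p hp hker q hq
  refine ⟨(adj.homEquiv _ _).symm r, ?_⟩
  rw [← Adjunction.homEquiv_naturality_left_symm, hr]
  exact Equiv.symm_apply_apply _ _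

end generic

theorem exists_isQuot_tilde (J : Ideal A) {M N : ModuleCat.{u} (CommRingCat.of A)} (p : M ⟶ N)
    (hp : Function.Surjective p) (hker : LinearMap.ker p.hom = (J • ⊤ : Submodule A M)) :
    ∃ h : Formal.smulFamily J (tilde M) ≫ (tilde.functor _).map p = 0, IsIso (cokernel.desc _ _ h) := by
  have h : Formal.smulFamily J (tilde M) ≫ (tilde.functor _).map p = 0 :=
    (smulFamily_comp_eq_zero_iff _).2 fun a ha => smulModΓ_tilde_map (R := CommRingCat.of A) J p hker ha
  refine ⟨h, ?_⟩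
  obtain ⟨d, hd⟩ := exists_tilde_desc (R := CommRingCat.of A) J p hp hker (cokernel.π (Formal.smulFamily J (tilde M)))
    fun a ha => (smulFamily_comp_eq_zero_iff _).1 (cokernel.condition _) a ha
  haveI := epi_tilde_map (R := CommRingCat.of A) p hp
  refine ⟨d, ?_, ?_⟩
  · exact (cancel_epi (cokernel.π _)).1 ((cokernel.π_desc_assoc _ _ _ _).trans (hd.trans (Category.comp_id _).symm))
  · exact (cancel_epi ((tilde.functor _).map p)).1
      (((Category.assoc _ _ _).symm.trans (congrArg (· ≫ _) hd)).trans ((cokernel.π_desc _ _ _).trans (Category.comp_id _).symm))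

theorem exists_homEquiv_symm_eq {R : CommRingCat.{u}} {M : ModuleCat.{u} R} {C : (Spec R).Modules}
    (hC : Coh.IsQCoh C) (π : M ⟶ moduleSpecΓFunctor.obj C) :
    ∃ ε : tilde (moduleSpecΓFunctor.obj C) ⟶ C, IsIso ε ∧
      ((tilde.adjunction (R := R)).homEquiv M C).symm π = (tilde.functor R).map π ≫ ε :=
  ⟨C.fromTildeΓ, @Scheme.Modules.isIso_fromTildeΓ_of_isQuasicoherent R _ hC, Adjunction.homEquiv_counit _ _ _ π⟩

theorem exists_isQuot_homEquiv_symm (J : Ideal A) {M : ModuleCat.{u} (CommRingCat.of A)}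
    {C : (Spec (CommRingCat.of A)).Modules} (hC : Coh.IsQCoh C) (π : M ⟶ moduleSpecΓFunctor.obj C)
    (hp : Function.Surjective π) (hker : LinearMap.ker π.hom = (J • ⊤ : Submodule A M)) :
    ∃ h : Formal.smulFamily J (tilde M) ≫ ((tilde.adjunction (R := CommRingCat.of A)).homEquiv M C).symm π = 0,
      IsIso (cokernel.desc _ _ h) := by
  obtain ⟨h, hi⟩ := exists_isQuot_tilde J π hp hker
  obtain ⟨ε, hf, hc⟩ := exists_homEquiv_symm_eq (R := CommRingCat.of A) hC π
  have h' : Formal.smulFamily J (tilde M) ≫ ((tilde.adjunction (R := CommRingCat.of A)).homEquiv M C).symm π = 0 :=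
    (congrArg (_ ≫ ·) hc).trans ((Category.assoc _ _ _).symm.trans ((congrArg (· ≫ _) h).trans zero_comp))
  refine ⟨h', ?_⟩
  have he : cokernel.desc _ _ h' = cokernel.desc _ _ h ≫ ε :=
    (cancel_epi (cokernel.π _)).1 ((cokernel.π_desc _ _ _).trans (hc.trans (cokernel.π_desc_assoc _ _ _ _).symm))
  exact he ▸ @IsIso.comp_isIso _ _ _ _ _ _ _ hi hf

theorem nonempty_completion_iso_of_quot {X : Scheme.{u}} [X.Over (Spec (CommRingCat.of A))] (I : Ideal A)
    {T : X.Modules} {G : ℕᵒᵖ ⥤ X.Modules} (φ : ∀ n, T ⟶ G.obj (op n))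
    (hφ : ∀ n, φ (n + 1) ≫ G.map (homOfLE (Nat.le_succ n)).op = φ n)
    (hq : ∀ n, ∃ h : Formal.smulFamily (I ^ (n + 1)) T ≫ φ n = 0, IsIso (cokernel.desc _ _ h)) :
    Nonempty (Formal.completion I T ≅ G) := by
  choose h hi using hq
  let ψ : ∀ n, Formal.modPow I (n + 1) T ⟶ G.obj (op n) := fun n => cokernel.desc _ _ (h n)
  have hπ : ∀ n, Formal.modPowπ I (n + 1) T ≫ ψ n = φ n := fun n => cokernel.π_desc _ _ _
  let α : Formal.completion I T ⟶ G := NatTrans.ofOpSequence ψ fun n => by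
    refine (congrArg (· ≫ ψ n) (completion_map I T n)).trans ?_
    refine (cancel_epi (Formal.modPowπ I (n + 1 + 1) T)).1 ((modPowπ_trans'_assoc I (n + 1) T (ψ n)).trans ((hπ n).trans ?_))
    exact ((congrArg (· ≫ G.map (homOfLE (Nat.le_succ n)).op) (hπ (n + 1))).trans (hφ n)).symm.trans (Category.assoc _ _ _)
  haveI : ∀ k, IsIso (α.app k) := fun ⟨n⟩ => hi n
  haveI := NatIso.isIso_of_isIso_app α
  exact ⟨asIso α⟩

theorem homEquiv_symm_compat {R : CommRingCat.{u}} (G : ℕᵒᵖ ⥤ (Spec R).Modules) (n : ℕ) :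
    ((tilde.adjunction (R := R)).homEquiv _ _).symm (moduleSpecΓFunctor.map (limit.π G (op (n + 1)))) ≫
        G.map (homOfLE (Nat.le_succ n)).op =
      ((tilde.adjunction (R := R)).homEquiv _ _).symm (moduleSpecΓFunctor.map (limit.π G (op n))) := by
  refine ((tilde.adjunction (R := R)).homEquiv_naturality_right_symm _ _).symm.trans ?_
  exact congrArg _ ((moduleSpecΓFunctor.map_comp _ _).symm.trans (congrArg (fun t => moduleSpecΓFunctor.map t) (limit.w G _)))

theorem finite_secΓ {R : CommRingCat.{u}} {C : (Spec R).Modules} (hC : Coh.IsCoh C) :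
    Module.Finite R (moduleSpecΓFunctor.obj C) :=
  haveI := @Scheme.Modules.isIso_fromTildeΓ_of_isQuasicoherent R _ hC.1
  M1.finite_of_isFT_tilde _ (M1.isFT_of_isIso (asIso C.fromTildeΓ).symm hC.2)

theorem sys_secΓ (I : Ideal A) {G : ℕᵒᵖ ⥤ (Spec (CommRingCat.of A)).Modules} (hq : ∀ n, Coh.IsQCoh (G.obj (op n)))
    (hG : ∀ n, ∃ h : Formal.smulFamily (I ^ (n + 1)) (G.obj (op (n + 1))) ≫ G.map (homOfLE (Nat.le_succ n)).op = 0,
      IsIso (cokernel.desc _ _ h)) :
    AdicLimH7.Sys I (fun n => ((moduleSpecΓFunctor (R := CommRingCat.of A)).obj (G.obj (op n)) : Type u))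
      (fun n => ((moduleSpecΓFunctor (R := CommRingCat.of A)).map (G.map (homOfLE (Nat.le_succ n)).op)).hom)
      ((moduleSpecΓFunctor (R := CommRingCat.of A)).obj (limit G))
      (fun n => ((moduleSpecΓFunctor (R := CommRingCat.of A)).map (limit.π G (op n))).hom) :=
  sys_sections hq hG (U := ⊤) (isAffineOpen_top _)

theorem exists_completion_iso_affine [IsNoetherianRing A] (I : Ideal A) [IsAdicComplete I A]
    {G : ℕᵒᵖ ⥤ (Spec (CommRingCat.of A)).Modules} (hG : Formal.IsCohFormal I G) :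
    ∃ (M : ModuleCat.{u} (CommRingCat.of A)) (_ : Module.Finite A M),
      Nonempty (Formal.completion I (tilde M) ≅ G) := by
  have hI : I.FG := IsNoetherian.noetherian I
  have hs := sys_secΓ I (fun n => (hG.1 n).1) hG.2.2
  haveI : ∀ n, Module.Finite A ((moduleSpecΓFunctor (R := CommRingCat.of A)).obj (G.obj (op n))) :=
    fun n => finite_secΓ (R := CommRingCat.of A) (hG.1 n)
  refine ⟨(moduleSpecΓFunctor (R := CommRingCat.of A)).obj (limit G), hs.finite hI, ?_⟩
  exact nonempty_completion_iso_of_quot I _ (homEquiv_symm_compat (R := CommRingCat.of A) G)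
    fun n => exists_isQuot_homEquiv_symm (I ^ (n + 1)) (hG.1 n).1 _ (hs.surjective n) (hs.ker_eq hI n)

end Groth.Agent.Algz27C
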