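import Groth.Agent.Lib.FormalH7.ModPow
import Groth.Prelude.Def_Algz

/-!
Morphisms and pro-isomorphisms of coherent formal systems.
-/

universe u

open CategoryTheory CategoryTheory.Limits AlgebraicGeometry Opposite Groth.Agent.FormalH7

namespace Groth.Agent.AlgzLib

variable {A : Type u} [CommRing A] {I : Ideal A} {X : Scheme.{u}} [X.Over (Spec (CommRingCat.of A))]
  {F G : ℕᵒᵖ ⥤ X.Modules}

theorem existsUnique_hom_of_reindex (hF : Formal.IsCohFormal I F) (hG : Formal.IsCohFormal I G) {m : ℕ → ℕ}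
    (hm : Monotone m) (hle : ∀ n, n ≤ m n) {π : DerCA.reindex F hm ⟶ F} (hπ : ∀ n : ℕ, π.app (op n) = gm F (hle n))
    (α : DerCA.reindex F hm ⟶ G) : ∃! β : F ⟶ G, π ≫ β = α := by
  haveI := fun n => epi_gm hF.2.2 (hle n)
  have h : ∀ n, ∃ b : F.obj (op n) ⟶ G.obj (op n), gm F (hle n) ≫ b = α.app (op n) := fun n =>
    exists_fac hF.2.2 (hle n) (α.app (op n)) fun a ha => by
      rw [smulMod_naturality, hG.2.1 n a ha]
      exact comp_zero
  choose b hb using h
  let β : F ⟶ G := NatTrans.ofOpSequence b fun n => by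
    rw [← cancel_epi (gm F (hle (n + 1)))]
    refine ((Category.assoc _ _ _).symm.trans (congrArg (· ≫ b n)
      ((gm_comp F (Nat.le_succ n) (hle (n + 1))).trans (gm_comp F (hle n) (hm (Nat.le_succ n))).symm))).trans ?_
    refine ((Category.assoc _ _ _).trans (congrArg (gm F (hm (Nat.le_succ n)) ≫ ·) (hb n))).trans ?_
    exact (α.naturality (homOfLE (Nat.le_succ n)).op).trans
      ((congrArg (· ≫ G.map (homOfLE (Nat.le_succ n)).op) (hb (n + 1))).symm.trans (Category.assoc _ _ _))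
  refine ⟨β, ?_, fun β' h' => ?_⟩
  · exact NatTrans.ext (funext fun ⟨n⟩ => (congrArg (· ≫ b n) (hπ n)).trans (hb n))
  · refine NatTrans.ext (funext fun ⟨n⟩ => ?_)
    rw [← cancel_epi (gm F (hle n))]
    have := congrArg (fun γ : DerCA.reindex F hm ⟶ G => γ.app (op n)) h'
    exact ((congrArg (· ≫ β'.app (op n)) (hπ n)).symm.trans this).trans (hb n).symm

/-- The transition map of the reindexing. -/
def reindexπ (F : ℕᵒᵖ ⥤ X.Modules) {m : ℕ → ℕ} (hm : Monotone m) (hle : ∀ n, n ≤ m n) : DerCA.reindex F hm ⟶ F where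
  app n := gm F (hle n.unop)
  naturality n k f := (gm_comp F (hle k.unop) (hm (leOfHom f.unop))).trans
    (gm_comp F (leOfHom f.unop) (hle n.unop)).symm

theorem nonempty_iso_of_isProIsomorphic (hF : Formal.IsCohFormal I F) (hG : Formal.IsCohFormal I G)
    (h : Algz.IsProIsomorphic F G) : Nonempty (F ≅ G) := by
  obtain ⟨m, hm, hle, a, ha⟩ := h
  obtain ⟨β, hβ, -⟩ := existsUnique_hom_of_reindex hF hG hm hle (π := reindexπ F hm hle) (fun n => rfl) a
  have hβ' : ∀ n, gm F (hle n) ≫ β.app (op n) = a.app (op n) := fun n =>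
    congrArg (fun γ : DerCA.reindex F hm ⟶ G => γ.app (op n)) hβ
  suffices ∀ n, IsIso (β.app (op n)) by
    haveI : ∀ k, IsIso (β.app k) := fun ⟨n⟩ => this n
    haveI := NatIso.isIso_of_isIso_app β
    exact ⟨asIso β⟩
  intro n
  obtain ⟨k, hk, b, hb1, hb2⟩ := ha n
  haveI := epi_gm hG.2.2 hk
  haveI := epi_gm hF.2.2 ((hle n).trans (hm hk))
  obtain ⟨c, hc⟩ := exists_fac hG.2.2 hk (b ≫ gm F (hle n)) fun r hr => by
    rw [smulMod_naturality_assoc, smulMod_naturality, hF.2.1 n r hr, comp_zero]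
    exact comp_zero
  refine ⟨c, ?_, ?_⟩
  · rw [← cancel_epi (gm F ((hle n).trans (hm hk)))]
    have h1 : gm F ((hle n).trans (hm hk)) ≫ β.app (op n) = a.app (op k) ≫ gm G hk :=
      ((congrArg (· ≫ β.app (op n)) (gm_comp F (hle n) (hm hk))).symm.trans (Category.assoc _ _ _)).trans
        ((congrArg (gm F (hm hk) ≫ ·) (hβ' n)).trans (a.naturality (homOfLE hk).op))
    refine ((Category.assoc _ _ _).symm.trans (congrArg (· ≫ c) h1)).trans ?_
    refine ((Category.assoc _ _ _).trans (congrArg (a.app (op k) ≫ ·) hc)).trans ?_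
    refine ((Category.assoc _ _ _).symm.trans (congrArg (· ≫ gm F (hle n)) hb1)).trans ?_
    exact (gm_comp F (hle n) (hm hk)).trans (Category.comp_id _).symm
  · rw [← cancel_epi (gm G hk)]
    refine ((Category.assoc _ _ _).symm.trans (congrArg (· ≫ β.app (op n)) hc)).trans ?_
    exact ((Category.assoc _ _ _).trans (congrArg (b ≫ ·) (hβ' n))).trans (hb2.trans (Category.comp_id _).symm)

end Groth.Agent.AlgzLib
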