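import Groth.Agent.Lib.Algz27.Completion27
import Groth.Agent.Lib.Algz27.ProIso27
import Groth.Agent.Lib.PunctFree27.Scheme
import Groth.Agent.Lib.DPerf.Noeth

/-!
# Sections of systems on punctured spectra and extension of systems
-/

set_option autoImplicit false
universe u

open CategoryTheory CategoryTheory.Limits AlgebraicGeometry Opposite

noncomputable section

namespace Groth.Agent.Algz27C

open Groth.Agent.FormalH7

theorem nonempty_sectSys_restrict {A : Type u} [CommRing A] (U : (Spec (CommRingCat.of A)).Opens) [QuasiCompact U.ι]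
    (G : ℕᵒᵖ ⥤ (U : Scheme.{u}).Modules) (hG : ∀ k, Coh.IsQCoh (G.obj k)) :
    Nonempty (Algz.sectSys A U G ⋙ Scheme.Modules.restrictFunctor U.ι ≅ G) := by
  let α : Algz.sectSys A U G ⟶ G ⋙ Scheme.Modules.pushforward U.ι :=
    Functor.whiskerLeft (G ⋙ Scheme.Modules.pushforward U.ι)
      (Scheme.Modules.fromTildeΓNatTrans (R := CommRingCat.of A))
  haveI : ∀ k, IsIso (α.app k) := fun k =>
    @Scheme.Modules.isIso_fromTildeΓ_of_isQuasicoherent (CommRingCat.of A) _ (M1.isQCoh_push U.ι (hG k))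
  haveI := NatIso.isIso_of_isIso_app α
  exact ⟨Functor.isoWhiskerRight (asIso α) (Scheme.Modules.restrictFunctor U.ι) ≪≫ Functor.associator _ _ _ ≪≫
    Functor.isoWhiskerLeft G (Scheme.Modules.restrictFunctorAdjCounitIso U.ι) ≪≫ Functor.rightUnitor G⟩

theorem isProIsomorphic_map {C : Type*} [Category* C] {D : Type*} [Category* D] (F : C ⥤ D) {X Y : ARSys.PS C}
    (h : Algz.IsProIsomorphic X Y) : Algz.IsProIsomorphic (X ⋙ F) (Y ⋙ F) := by
  obtain ⟨m, hm, hle, a, ha⟩ := h
  refine ⟨m, hm, hle, Functor.whiskerRight a F, fun n => ?_⟩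
  obtain ⟨k, hk, b, h1, h2⟩ := ha n
  exact ⟨k, hk, F.map b, (F.map_comp _ _).symm.trans (congrArg (fun t => F.map t) h1),
    (F.map_comp _ _).symm.trans (congrArg (fun t => F.map t) h2)⟩

theorem isProIsomorphic_of_iso {C : Type*} [Category* C] {X X' Y : ARSys.PS C} (e : X ≅ X')
    (h : Algz.IsProIsomorphic X Y) : Algz.IsProIsomorphic X' Y := by
  obtain ⟨m, hm, hle, a, ha⟩ := h
  refine ⟨m, hm, hle, Functor.whiskerLeft _ e.inv ≫ a, fun n => ?_⟩
  obtain ⟨k, hk, b, h1, h2⟩ := ha n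
  refine ⟨k, hk, b ≫ e.hom.app _, ?_, ?_⟩
  · show (e.inv.app _ ≫ a.app _) ≫ b ≫ e.hom.app _ = _
    rw [Category.assoc, reassoc_of% h1]
    exact ((Category.assoc _ _ _).symm.trans (congrArg (· ≫ _) (e.inv.naturality _).symm)).trans
      ((Category.assoc _ _ _).trans ((congrArg (_ ≫ ·) (e.inv_hom_id_app _)).trans (Category.comp_id _)))
  · show (b ≫ e.hom.app _) ≫ e.inv.app _ ≫ a.app _ = _
    rw [Category.assoc]
    exact (congrArg (b ≫ ·) (e.hom_inv_id_app_assoc _ _)).trans h2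

variable {A : Type u} [CommRing A] {X Y : Scheme.{u}} [X.Over (Spec (CommRingCat.of A))]
  [Y.Over (Spec (CommRingCat.of A))] {I : Ideal A} (j : X ⟶ Y) [IsOpenImmersion j]
  (hj : j ≫ (Y ↘ Spec (CommRingCat.of A)) = X ↘ Spec (CommRingCat.of A))

include hj in
theorem isCohFormal_restrict {G : ℕᵒᵖ ⥤ Y.Modules} (hG : Formal.IsCohFormal I G) :
    Formal.IsCohFormal I (G ⋙ Scheme.Modules.restrictFunctor j) := by
  let e := Scheme.Modules.restrictFunctorIsoPullback j
  refine ⟨fun n => DPerf.isCoh_restrict (hG.1 n) j, fun n => ?_, fun n => ?_⟩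
  · exact killedBy_of_mono (e.app _).hom (killedBy_pullback j hj (hG.2.1 n))
  · obtain ⟨h, hi⟩ := hG.2.2 n
    obtain ⟨h', hi'⟩ := isQuot_pullback j hj _ h hi
    have h'' : Formal.smulFamily (I ^ (n + 1)) ((Scheme.Modules.restrictFunctor j).obj (G.obj (op (n + 1)))) ≫
        (Scheme.Modules.restrictFunctor j).map (G.map (homOfLE (Nat.le_succ n)).op) = 0 :=
      smulFamily_comp_of_killed _ (killedBy_of_mono (e.app _).hom (killedBy_pullback j hj (hG.2.1 n)))
    refine ⟨h'', ?_⟩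
    have hc : cokernel.desc _ _ h'' =
        (modPowIso I (n + 1) (e.app (G.obj (op (n + 1))))).hom ≫ cokernel.desc _ _ h' ≫ e.inv.app _ := by
      refine (cancel_epi (cokernel.π _)).1 ((cokernel.π_desc _ _ _).trans ?_)
      refine Eq.symm ((modPowπ_map_assoc I (n + 1) (e.app (G.obj (op (n + 1)))).hom _).trans ?_)
      refine (congrArg (_ ≫ ·) (cokernel.π_desc_assoc _ _ _ _)).trans ?_
      exact (NatTrans.naturality_assoc e.hom _ _).symm.trans
        ((congrArg (_ ≫ ·) (e.hom_inv_id_app _)).trans (Category.comp_id _))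
    show IsIso (cokernel.desc _ _ h'')
    rw [hc]
    exact @IsIso.comp_isIso _ _ _ _ _ _ _ (Iso.isIso_hom _) (@IsIso.comp_isIso _ _ _ _ _ _ _ hi' inferInstance)

end Groth.Agent.Algz27C
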