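import Groth.Prelude.Def_ARSys
import Mathlib.Algebra.Category.ModuleCat.Abelian
import Mathlib.Algebra.Category.ModuleCat.Subobject
import Mathlib.Algebra.Category.ModuleCat.Limits
import Mathlib.CategoryTheory.Functor.OfSequence

/-!
# Mittag-Leffler systems of modules: the limit surjects onto the stable images
-/

set_option autoImplicit false
universe u

open CategoryTheory CategoryTheory.Limits Opposite

namespace Groth.Agent.Algz27C

variable {R : Type u} [CommRing R]

theorem range_eq_of_imageSubobject_eq {P Q T : ModuleCat.{u} R} (f : P ⟶ T) (g : Q ⟶ T)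
    (h : imageSubobject f = imageSubobject g) : LinearMap.range f.hom = LinearMap.range g.hom := by
  have key : ∀ {P : ModuleCat.{u} R} (f : P ⟶ T),
      LinearMap.range f.hom = LinearMap.range (imageSubobject f).arrow.hom := fun f => by
    have hs := (ModuleCat.epi_iff_surjective (factorThruImageSubobject f)).1 inferInstance
    conv_lhs => rw [← imageSubobject_arrow_comp f]
    rw [ModuleCat.hom_comp, LinearMap.range_comp_of_range_eq_top _ (LinearMap.range_eq_top.2 hs)]
  rw [key f, key g, h]

variable (X : ARSys.PS (ModuleCat.{u} R))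

/-- The image of a transition map. -/
def imTr {n p : ℕ} (h : n ≤ p) : Submodule R (X.obj (op n)) := LinearMap.range (ARSys.tr X h).hom

theorem tr_tr {n p q : ℕ} (h : n ≤ p) (h' : p ≤ q) (x : X.obj (op q)) :
    ARSys.tr X h (ARSys.tr X h' x) = ARSys.tr X (h.trans h') x :=
  (ConcreteCategory.comp_apply (ARSys.tr X h') (ARSys.tr X h) x).symm.trans
    (congrArg (fun t : X.obj (op q) ⟶ X.obj (op n) => t x) (X.map_comp (homOfLE h').op (homOfLE h).op).symm)

theorem exists_stable (hML : ARSys.IsML X) (n : ℕ) :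
    ∃ (p : ℕ) (h : n ≤ p), ∀ (q : ℕ) (h' : n ≤ q), p ≤ q → imTr X h' = imTr X h := by
  obtain ⟨r, hr⟩ := hML n
  refine ⟨n + r, Nat.le_add_right n r, fun q h' hq => ?_⟩
  obtain ⟨s, rfl⟩ := Nat.exists_eq_add_of_le h'
  exact range_eq_of_imageSubobject_eq _ _ (hr s (by omega))

theorem exists_limit_π_range (hML : ARSys.IsML X) (n : ℕ) :
    ∃ (p : ℕ) (h : n ≤ p), ∀ (q : ℕ) (h' : n ≤ q), p ≤ q → imTr X h' = LinearMap.range (limit.π X (op n)).hom := by
  choose p hp hs using exists_stable X hML
  have hπ : ∀ {i j : ℕ} (h : i ≤ j) (x : (limit X : ModuleCat.{u} R)),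
      ARSys.tr X h (limit.π X (op j) x) = limit.π X (op i) x := fun h x =>
    (ConcreteCategory.comp_apply _ (ARSys.tr X h) x).symm.trans
      (congrArg (fun t : limit X ⟶ _ => t x) (limit.w X (homOfLE h).op))
  refine ⟨p n, hp n, fun q h' hq => le_antisymm ?_ ?_⟩
  · intro x hx
    -- stable images surject
    have step : ∀ (i : ℕ) (y : X.obj (op i)), y ∈ imTr X (hp i) →
        ∃ z : X.obj (op (i + 1)), z ∈ imTr X (hp (i + 1)) ∧ ARSys.tr X (Nat.le_succ i) z = y := by
      intro i y hy
      let q := max (p i) (p (i + 1))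
      have hq1 : i + 1 ≤ q := (hp (i + 1)).trans (le_max_right _ _)
      rw [← hs i q ((Nat.le_succ i).trans hq1) (le_max_left _ _)] at hy
      obtain ⟨w, hw⟩ := hy
      refine ⟨ARSys.tr X hq1 w, hs (i + 1) q hq1 (le_max_right _ _) ▸ ⟨w, rfl⟩, ?_⟩
      exact (tr_tr X _ _ w).trans hw
    choose z hz hzt using step
    rw [hs n q h' hq] at hx
    let s : ∀ j : ℕ, {y : X.obj (op (n + j)) // y ∈ imTr X (hp (n + j))} := fun j =>
      Nat.rec (⟨x, hx⟩ : {y : X.obj (op n) // y ∈ imTr X (hp n)}) (fun j y => ⟨z _ y.1 y.2, hz _ y.1 y.2⟩) j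
    have hs0 : ∀ j, ARSys.tr X (Nat.le_succ (n + j)) (s (j + 1)).1 = (s j).1 := fun j => hzt _ _ (s j).2
    have hsx : ∀ j, ARSys.tr X (Nat.le_add_right n j) (s j).1 = x := by
      intro j
      induction j with
      | zero => exact congrArg (fun t : X.obj (op n) ⟶ X.obj (op n) => t x) (X.map_id (op n))
      | succ j ih =>
        rw [← hs0 j] at ih
        exact (tr_tr X (Nat.le_add_right n j) (Nat.le_succ (n + j)) _).symm.trans ih
    let c : ∀ i : ℕ, ModuleCat.of R R ⟶ X.obj (op i) := fun i =>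
      ModuleCat.ofHom (LinearMap.toSpanSingleton R _ (ARSys.tr X (Nat.le_add_left i n) (s i).1))
    let cone : Cone X :=
      { pt := ModuleCat.of R R
        π := NatTrans.ofOpSequence (F := (Functor.const ℕᵒᵖ).obj (ModuleCat.of R R)) c fun i => by
          refine (Category.id_comp _).trans (ModuleCat.hom_ext (LinearMap.ext_ring ?_))
          show (1 : R) • _ = ARSys.tr X (Nat.le_succ i) ((1 : R) • _)
          rw [one_smul, one_smul, tr_tr]
          refine (congrArg (ARSys.tr X (Nat.le_add_left i n)) (hs0 i).symm).trans ?_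
          exact tr_tr X _ _ _ }
    refine ⟨limit.lift X cone (1 : R), ?_⟩
    refine (ConcreteCategory.comp_apply (limit.lift X cone) (limit.π X (op n)) (1 : R)).symm.trans ?_
    refine (congrArg (fun t : ModuleCat.of R R ⟶ X.obj (op n) => t (1 : R)) (limit.lift_π cone (op n))).trans ?_
    show (1 : R) • _ = x
    rw [one_smul]
    exact hsx n
  · rintro _ ⟨l, rfl⟩
    exact ⟨limit.π X (op q) l, hπ h' l⟩

end Groth.Agent.Algz27C
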