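import Groth.Agent.Lib.Algz27.Affine27
import Groth.Agent.Lib.Algz27.Extends27
import Groth.Agent.Lib.Algz27.MLMod27

/-!
# A criterion for canonical extendability
-/

set_option autoImplicit false
universe u

open CategoryTheory CategoryTheory.Limits AlgebraicGeometry Opposite

noncomputable section

namespace Groth.Agent.Algz27C

open Groth.Agent.FormalH7

section modules

variable {R : Type u} [CommRing R] (I : Ideal R) (X : ARSys.PS (ModuleCat.{u} R))

/-- The truncations of the limit. -/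
def quotSys : ARSys.PS (ModuleCat.{u} R) :=
  Functor.ofOpSequence (X := fun n => ModuleCat.of R (↥(limit X : ModuleCat.{u} R) ⧸ (I ^ (n + 1) • ⊤ : Submodule R ↥(limit X : ModuleCat.{u} R))))
    fun n => ModuleCat.ofHom (Submodule.factor (Submodule.smul_mono (Ideal.pow_le_pow_right (Nat.le_succ (n + 1))) le_rfl))

/-- The projections to the truncations. -/
def quotπ (n : ℕ) : (limit X : ModuleCat.{u} R) ⟶ (quotSys I X).obj (op n) :=
  ModuleCat.ofHom (I ^ (n + 1) • ⊤ : Submodule R ↥(limit X : ModuleCat.{u} R)).mkQ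

theorem quotπ_surjective (n : ℕ) : Function.Surjective (quotπ I X n) :=
  Submodule.mkQ_surjective _

theorem ker_quotπ (n : ℕ) : LinearMap.ker (quotπ I X n).hom = (I ^ (n + 1) • ⊤ : Submodule R ↥(limit X : ModuleCat.{u} R)) :=
  Submodule.ker_mkQ _

theorem quotπ_comp (n : ℕ) : quotπ I X (n + 1) ≫ (quotSys I X).map (homOfLE (Nat.le_succ n)).op = quotπ I X n := by
  have h : (quotSys I X).map (homOfLE (Nat.le_succ n)).op =
      ModuleCat.ofHom (Submodule.factor (Submodule.smul_mono (Ideal.pow_le_pow_right (Nat.le_succ (n + 1))) le_rfl)) :=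
    Functor.ofOpSequence_map_homOfLE_succ _ n
  rw [h]
  rfl

theorem quotπ_tr {n k : ℕ} (h : n ≤ k) : quotπ I X k ≫ ARSys.tr (quotSys I X) h = quotπ I X n := by
  induction k, h using Nat.le_induction with
  | base => exact (congrArg (quotπ I X n ≫ ·) ((quotSys I X).map_id (op n))).trans (Category.comp_id _)
  | succ k h ih =>
    have : ARSys.tr (quotSys I X) (h.trans (Nat.le_succ k)) =
        (quotSys I X).map (homOfLE (Nat.le_succ k)).op ≫ ARSys.tr (quotSys I X) h := ((quotSys I X).map_comp _ _)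
    rw [this, ← Category.assoc, quotπ_comp, ih]

theorem exists_proIso_quotSys (hk : ∀ n, ∀ a ∈ I ^ (n + 1), ∀ x : X.obj (op n), a • x = 0) (hML : ARSys.IsML X)
    (hb : ∀ k : ℕ, ∃ n : ℕ, LinearMap.ker (limit.π X (op n)).hom ≤ I ^ k • (⊤ : Submodule R ↑(limit X))) :
    Algz.IsProIsomorphic X (quotSys I X) := by
  choose j₀ hj₀ using fun n => hb (n + 1)
  choose p hp hst using exists_limit_π_range X hML
  let J : ℕ → ℕ := fun n => ∑ i ∈ Finset.range (n + 1), (j₀ i + i)
  let m : ℕ → ℕ := fun n => ∑ i ∈ Finset.range (n + 1), (p (J i) + J i)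
  have hJ : ∀ n, j₀ n + n ≤ J n := fun n =>
    Finset.single_le_sum (f := fun i => j₀ i + i) (fun i _ => Nat.zero_le _) (Finset.self_mem_range_succ n)
  have hmJ : ∀ n, p (J n) + J n ≤ m n := fun n =>
    Finset.single_le_sum (f := fun i => p (J i) + J i) (fun i _ => Nat.zero_le _) (Finset.self_mem_range_succ n)
  have hm : Monotone m := fun a b hab => Finset.sum_le_sum_of_subset (Finset.range_mono (Nat.succ_le_succ hab))
  have hJm : Monotone J := fun a b hab => Finset.sum_le_sum_of_subset (Finset.range_mono (Nat.succ_le_succ hab))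
  have hJn : ∀ n, J n ≤ m n := fun n => (Nat.le_add_left _ _).trans (hmJ n)
  have hle : ∀ n, n ≤ m n := fun n => ((Nat.le_add_left _ _).trans (hJ n)).trans (hJn n)
  have hker : ∀ n, LinearMap.ker (limit.π X (op (J n))).hom ≤
      I ^ (n + 1) • (⊤ : Submodule R ↑(limit X)) := fun n => by
    refine le_trans ?_ (hj₀ n)
    intro x hx
    have hw := limit.w X (homOfLE ((Nat.le_add_right (j₀ n) n).trans (hJ n))).op
    rw [LinearMap.mem_ker, ← hw]
    show (X.map _).hom ((limit.π X (op (J n))).hom x) = 0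
    rw [LinearMap.mem_ker.1 hx, map_zero]
  have hlift : ∀ n (x : X.obj (op (m n))), ∃ l : (limit X : ModuleCat.{u} R),
      limit.π X (op (J n)) l = ARSys.tr X (hJn n) x := fun n x =>
    (hst (J n) (m n) (hJn n) ((Nat.le_add_right _ _).trans (hmJ n))).le ⟨x, rfl⟩
  choose l hl using hlift
  have huniq : ∀ n (x : X.obj (op (m n))) (l' : (limit X : ModuleCat.{u} R)),
      limit.π X (op (J n)) l' = ARSys.tr X (hJn n) x → quotπ I X n (l n x) = quotπ I X n l' := fun n x l' h' => by
    refine (Submodule.Quotient.eq _).2 (hker n ?_)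
    exact LinearMap.mem_ker.2 (((limit.π X (op (J n))).hom.map_sub _ _).trans (sub_eq_zero.2 ((hl n x).trans h'.symm)))
  let α : ∀ n, X.obj (op (m n)) ⟶ (quotSys I X).obj (op n) := fun n => ModuleCat.ofHom
    { toFun := fun x => quotπ I X n (l n x)
      map_add' := fun x y => (huniq n _ (l n x + l n y)
        (((limit.π X (op (J n))).hom.map_add _ _).trans ((congrArg₂ (· + ·) (hl n x) (hl n y)).trans
          ((ARSys.tr X (hJn n)).hom.map_add _ _).symm))).trans ((quotπ I X n).hom.map_add _ _)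
      map_smul' := fun r x => (huniq n _ (r • l n x)
        (((limit.π X (op (J n))).hom.map_smul _ _).trans ((congrArg (r • ·) (hl n x)).trans
          ((ARSys.tr X (hJn n)).hom.map_smul _ _).symm))).trans ((quotπ I X n).hom.map_smul _ _) }
  have hπ : ∀ {i k : ℕ} (h : i ≤ k) (y : (limit X : ModuleCat.{u} R)),
      ARSys.tr X h (limit.π X (op k) y) = limit.π X (op i) y := fun h y =>
    (ConcreteCategory.comp_apply _ (ARSys.tr X h) y).symm.trans
      (congrArg (fun t : limit X ⟶ _ => t y) (limit.w X (homOfLE h).op))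
  let a : DerCA.reindex X hm ⟶ quotSys I X := NatTrans.ofOpSequence (F := DerCA.reindex X hm) (G := quotSys I X) α fun n => by
    refine ModuleCat.hom_ext (LinearMap.ext fun x => ?_)
    show quotπ I X n (l n (ARSys.tr X (hm (Nat.le_succ n)) x)) =
      (quotSys I X).map (homOfLE (Nat.le_succ n)).op (quotπ I X (n + 1) (l (n + 1) x))
    refine (huniq n _ (l (n + 1) x) ?_).trans
      (congrArg (fun t : (limit X : ModuleCat.{u} R) ⟶ _ => t (l (n + 1) x)) (quotπ_comp I X n)).symm
    rw [← hπ (hJm (Nat.le_succ n)), hl, tr_tr, tr_tr]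
  refine ⟨m, hm, hle, a, fun n => ⟨m n, hle n, ?_⟩⟩
  have hJk : m n ≤ J (m n) := (Nat.le_add_left _ _).trans (hJ (m n))
  have hkill : (I ^ (m n + 1) • ⊤ : Submodule R ↥(limit X : ModuleCat.{u} R)) ≤
      LinearMap.ker (limit.π X (op (m n))).hom :=
    Submodule.smul_le.2 fun r hr y _ => LinearMap.mem_ker.2
      (((limit.π X (op (m n))).hom.map_smul r y).trans (hk (m n) r hr _))
  refine ⟨ModuleCat.ofHom (Submodule.liftQ _ (limit.π X (op (m n))).hom hkill), ?_, ?_⟩
  · refine ModuleCat.hom_ext (LinearMap.ext fun x => ?_)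
    show limit.π X (op (m n)) (l (m n) x) = ARSys.tr X (hm (hle n)) x
    rw [← hπ hJk, hl, tr_tr]
  · refine ModuleCat.hom_ext (LinearMap.ext fun y => ?_)
    obtain ⟨y, rfl⟩ := quotπ_surjective I X (m n) y
    refine Eq.trans ?_ (congrArg (fun t : (limit X : ModuleCat.{u} R) ⟶ _ => t y) (quotπ_tr I X (hle n))).symm
    show quotπ I X n (l n (limit.π X (op (m n)) y)) = quotπ I X n y
    exact huniq n _ y (hπ (hJn n) y).symm

theorem finite_quotSys_obj (hb : ∀ k : ℕ, ∃ n : ℕ, LinearMap.ker (limit.π X (op n)).hom ≤ I ^ k • (⊤ : Submodule R ↑(limit X)))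
    (hc : ∀ n : ℕ, Module.Finite R ↥(LinearMap.range (limit.π X (op n)).hom)) (n : ℕ) :
    Module.Finite R ((quotSys I X).obj (op n)) := by
  obtain ⟨j, hj⟩ := hb (n + 1)
  haveI := hc j
  haveI : Module.Finite R (↥(limit X : ModuleCat.{u} R) ⧸ LinearMap.ker (limit.π X (op j)).hom) :=
    Module.Finite.equiv (limit.π X (op j)).hom.quotKerEquivRange.symm
  exact Module.Finite.of_surjective (Submodule.factor hj) (Submodule.factor_surjective hj)

end modules

attribute [local instance] selfOver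

theorem canonicallyExtends_of_sections {A : Type u} [CommRing A] [IsNoetherianRing A] (I : Ideal A)
    (U : (Spec (CommRingCat.of A)).Opens) (G : ℕᵒᵖ ⥤ (U : Scheme.{u}).Modules)
    (hk : ∀ n, ∀ a ∈ I ^ (n + 1), ∀ x : (Algz.sectMod A U G).obj (op n), a • x = 0)
    (hML : ARSys.IsML (Algz.sectMod A U G))
    (hb : ∀ k : ℕ, ∃ n : ℕ, LinearMap.ker (limit.π (Algz.sectMod A U G) (op n)).hom ≤
      I ^ k • (⊤ : Submodule A ↑(limit (Algz.sectMod A U G))))
    (hc : ∀ n : ℕ, Module.Finite A ↥(LinearMap.range (limit.π (Algz.sectMod A U G) (op n)).hom)) :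
    Algz.CanonicallyExtends A I U G := by
  let X := Algz.sectMod A U G
  let T := tilde.functor (CommRingCat.of A)
  obtain ⟨e⟩ := nonempty_completion_iso_of_quot I (T := T.obj (limit X)) (G := quotSys I X ⋙ T)
    (fun n => T.map (quotπ I X n))
    (fun n => (T.map_comp _ _).symm.trans (congrArg (fun t => T.map t) (quotπ_comp I X n)))
    (fun n => exists_isQuot_tilde (I ^ (n + 1)) (quotπ I X n) (quotπ_surjective I X n) (ker_quotπ I X n))
  refine ⟨Formal.completion I (T.obj (limit X)), ⟨fun n => ?_, fun n => killedBy_completion I n _, fun n => isQuot_completion I n _⟩, ?_⟩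
  · haveI := finite_quotSys_obj I X hb hc n
    exact ⟨M1.isQCoh_of_isIso (e.app (op n)).symm (show Coh.IsQCoh (T.obj ((quotSys I X).obj (op n))) from inferInstanceAs (Coh.IsQCoh (tilde _))), M1.isFT_of_isIso (e.app (op n)).symm (@M1.isFT_tilde (CommRingCat.of A) ((quotSys I X).obj (op n)) this)⟩
  · obtain ⟨m, hm, hle, a, ha⟩ := isProIsomorphic_map T (exists_proIso_quotSys I X hk hML hb)
    refine ⟨m, hm, hle, a ≫ e.inv, fun n => ?_⟩
    obtain ⟨k, hk', b, h1, h2⟩ := ha n
    refine ⟨k, hk', e.hom.app (op k) ≫ b, ?_, ?_⟩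
    · exact ((Category.assoc _ _ _).trans (congrArg (a.app (op k) ≫ ·) (e.inv_hom_id_app_assoc (op k) b))).trans h1
    · refine ((Category.assoc _ _ _).trans (congrArg (e.hom.app (op k) ≫ ·) ((Category.assoc _ _ _).symm.trans (congrArg (· ≫ e.inv.app (op n)) h2)))).trans ?_
      exact (congrArg (e.hom.app (op k) ≫ ·) (e.inv.naturality _)).trans (e.hom_inv_id_app_assoc (op k) _)

theorem smul_sectMod_eq_zero {A : Type u} [CommRing A] {U : (Spec (CommRingCat.of A)).Opens}
    (G : ℕᵒᵖ ⥤ (U : Scheme.{u}).Modules) {J : Ideal A} {n : ℕ} (hk : Formal.KilledBy J (G.obj (op n)))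
    {a : A} (ha : a ∈ J) (x : (Algz.sectMod A U G).obj (op n)) : a • x = 0 := by
  have h : Formal.smulMod A ((Scheme.Modules.pushforward U.ι).obj (G.obj (op n))) a = 0 := by
    rw [← pushforward_map_smulMod U.ι rfl, hk a ha, Functor.map_zero]
  exact (congrArg (fun t : (Scheme.Modules.pushforward U.ι).obj (G.obj (op n)) ⟶ (Scheme.Modules.pushforward U.ι).obj (G.obj (op n)) => t.app ⊤ x) h)

end Groth.Agent.Algz27C
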