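import Groth.Agent.Lib.Algz27.DimFun
import Groth.Agent.Lib.Hironaka.Catenary

/-!
# `deltaZ` to the closed point of a catenary local ring
-/

set_option autoImplicit false

universe u

open AlgebraicGeometry TopologicalSpace IsLocalRing Order

namespace Groth.Agent.Algz27

open Algz

variable (A : Type u) [CommRing A] [IsNoetherianRing A] [IsLocalRing A]

/-- The dimension of the closure. -/
noncomputable def dimδ (q : Spec (CommRingCat.of A)) : ℤ :=
  ((coheight (α := PrimeSpectrum A) q).toNat : ℤ)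

theorem isDimFun_dimδ (hA : CAlg.IsCatenary A) : Cyc.IsDimFun (Spec (CommRingCat.of A)) (dimδ A) := by
  intro x y hxy hne
  have hle : @LE.le (PrimeSpectrum A) _ x y := (PrimeSpectrum.le_iff_specializes x y).2 hxy
  have hlt : @LT.lt (PrimeSpectrum A) _ x y := lt_of_le_of_ne hle hne
  obtain ⟨a, ha⟩ := ENat.ne_top_iff_exists.mp (Hironaka.coheight_ne_top (A := A) x)
  obtain ⟨b, hb⟩ := ENat.ne_top_iff_exists.mp (Hironaka.coheight_ne_top (A := A) y)
  simp only [dimδ, ← ha, ← hb, ENat.toNat_natCast, Nat.cast_lt]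
  refine ⟨?_, fun hbet => ?_⟩
  · have h := Order.coheight_add_one_le (α := PrimeSpectrum A) hlt
    rw [← ha, ← hb] at h
    norm_cast at h
  · have hcov : @CovBy (PrimeSpectrum A) _ x y := ⟨hlt, fun z hxz hzy => by
      rcases hbet z ((PrimeSpectrum.le_iff_specializes x z).1 hxz.le) ((PrimeSpectrum.le_iff_specializes z y).1 hzy.le)
        with e | e
      · exact hxz.ne e.symm
      · exact hzy.ne e⟩
    have h := Hironaka.coheight_eq_add_one hA hcov
    rw [← ha, ← hb] at h
    norm_cast at h
    omega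

theorem deltaZ_closedPoint (hA : CAlg.IsCatenary A) (y : Spec (CommRingCat.of A)) :
    deltaZ ({closedPoint A} : Set (Spec (CommRingCat.of A))) y = coheight (α := PrimeSpectrum A) y := by
  have hδ := isDimFun_dimδ A hA
  obtain ⟨a, ha⟩ := ENat.ne_top_iff_exists.mp (Hironaka.coheight_ne_top (A := A) y)
  have hm : y ⤳ (closedPoint A : Spec (CommRingCat.of A)) :=
    (PrimeSpectrum.le_iff_specializes y _).1 (le_maximalIdeal y.2.ne_top)
  have h0 : dimδ A (closedPoint A) = 0 := by
    have : coheight (α := PrimeSpectrum A) (closedPoint A) = 0 :=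
      Order.coheight_eq_zero.2 fun q _ => le_maximalIdeal q.2.ne_top
    simp [dimδ, this]
  have h1 : deltaZ ({closedPoint A} : Set (Spec (CommRingCat.of A))) y ≤ coheight (α := PrimeSpectrum A) y := by
    refine (deltaZ_le_codimPt hm (Set.mem_singleton _)).trans (le_of_eq ?_)
    rw [codimPt_eq hδ hm, h0, sub_zero, dimδ, ← ha]
    simp
  refine le_antisymm h1 ?_
  obtain ⟨n, hn⟩ := ENat.ne_top_iff_exists.mp
    (ne_top_of_le_ne_top (Hironaka.coheight_ne_top (A := A) y) h1)
  obtain ⟨z, hz, hle⟩ := exists_dimFun_le hδ hn.symm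
  rw [Set.mem_singleton_iff.1 hz, h0, add_zero, dimδ, ← ha, ENat.toNat_natCast, Nat.cast_le] at hle
  rw [← hn, ← ha]
  exact_mod_cast hle

end Groth.Agent.Algz27
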