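import Groth.Agent.Lib.FormalColim28.FlatFormal
import Groth.Agent.Lib.FormalExtH7.Left
import Groth.Agent.Lib.FormalExtH7.Right
import Groth.Agent.Lib.Bootstrap27.CplBase
import Groth.Agent.Lib.PunctFree27.Coherent
import Groth.Agent.Lib.Algz27.Completion27
import Groth.Agent.Lib.Algz27.Affine27
import Groth.Agent.Lib.Algz27.Extends27
import Groth.Agent.Lib.ModLimH13.Flat
import Groth.Agent.Lib.GExistH7.Sys
import Groth.Agent.Lib.ModM1.ClosedImm
import Mathlib.AlgebraicGeometry.Pullbacks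

/-!
# Extension of formal modules to `Spec A` detected over the completion
-/

set_option autoImplicit false
set_option linter.style.haveILetI false
set_option linter.unusedSectionVars false
set_option backward.isDefEq.respectTransparency false

universe u

open CategoryTheory CategoryTheory.Limits AlgebraicGeometry Opposite TensorProduct

noncomputable section

namespace Groth.Agent.Algz27X

open Groth.Agent.FormalH7 Groth.Agent.GExistH7

section ChangeRing

variable {A A' : Type u} [CommRing A] [CommRing A'] [Algebra A A'] {Z : Scheme.{u}}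
  (iA : Z.Over (Spec (CommRingCat.of A))) (iA' : Z.Over (Spec (CommRingCat.of A')))

/-- The two structures agree. -/
def Compat : Prop :=
  (@CategoryTheory.over _ _ Z (Spec (CommRingCat.of A)) iA) =
    (@CategoryTheory.over _ _ Z (Spec (CommRingCat.of A')) iA') ≫ Spec.map (CommRingCat.ofHom (algebraMap A A'))

variable {iA iA'}

theorem smulMod_compat (hc : Compat iA iA') (M : Z.Modules) (a : A) :
    @Formal.smulMod A _ _ iA M a = @Formal.smulMod A' _ _ iA' M (algebraMap A A' a) := by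
  refine congrArg (Formal.smulModΓ M) ?_
  show (@CategoryTheory.over _ _ Z _ iA).appTop ((Scheme.ΓSpecIso (CommRingCat.of A)).inv a) =
    (@CategoryTheory.over _ _ Z _ iA').appTop ((Scheme.ΓSpecIso (CommRingCat.of A')).inv (algebraMap A A' a))
  rw [hc, Scheme.Hom.comp_appTop, CommRingCat.comp_apply]
  exact congrArg _ (ConcreteCategory.congr_hom (Scheme.ΓSpecIso_inv_naturality (CommRingCat.ofHom (algebraMap A A'))) a).symm

theorem kill_iff (hc : Compat iA iA') (I : Ideal A) (n : ℕ) {M N : Z.Modules} (φ : M ⟶ N) :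
    (∀ a ∈ I ^ n, @Formal.smulMod A _ _ iA M a ≫ φ = 0) ↔
      ∀ b ∈ I.map (algebraMap A A') ^ n, @Formal.smulMod A' _ _ iA' M b ≫ φ = 0 := by
  rw [← Ideal.map_pow]
  refine ⟨fun h => @GExistH7.smul_span_comp_eq_zero A' _ Z iA' _ _ _ φ ?_, fun h a ha => ?_⟩
  · rintro _ ⟨a, ha, rfl⟩
    rw [← smulMod_compat hc]
    exact h a ha
  · rw [smulMod_compat hc]
    exact h _ (Ideal.mem_map_of_mem _ ha)

theorem killedBy_iff (hc : Compat iA iA') (I : Ideal A) (n : ℕ) (M : Z.Modules) :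
    @Formal.KilledBy A _ Z iA (I ^ n) M ↔ @Formal.KilledBy A' _ Z iA' (I.map (algebraMap A A') ^ n) M :=
  ⟨fun h b hb => by simpa using (kill_iff hc I n (𝟙 M)).1 (fun a ha => by rw [Category.comp_id]; exact h a ha) b hb,
    fun h a ha => by simpa using (kill_iff hc I n (𝟙 M)).2 (fun b hb => by rw [Category.comp_id]; exact h b hb) a ha⟩

theorem isQuot_iff (hc : Compat iA iA') (I : Ideal A) (n : ℕ) {M N : Z.Modules} (p : M ⟶ N) :
    @IsQuot A _ Z iA (I ^ n) M N p ↔ @IsQuot A' _ Z iA' (I.map (algebraMap A A') ^ n) M N p :=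
  ⟨fun h => @IsQuot.mk A' _ Z iA' _ M N p h.epi ((kill_iff hc I n p).1 h.smul)
      fun φ hφ => h.desc φ ((kill_iff hc I n φ).2 hφ),
    fun h => @IsQuot.mk A _ Z iA _ M N p h.epi ((kill_iff hc I n p).2 h.smul)
      fun φ hφ => h.desc φ ((kill_iff hc I n φ).1 hφ)⟩

theorem isCohFormal_change (hc : Compat iA iA') (I : Ideal A) {G : ℕᵒᵖ ⥤ Z.Modules}
    (h : @Formal.IsCohFormal A _ Z iA I G) : @Formal.IsCohFormal A' _ Z iA' (I.map (algebraMap A A')) G :=
  ⟨h.1, fun n => (killedBy_iff hc I (n + 1) _).1 (h.2.1 n), fun n =>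
    @IsQuot.isIso_desc A' _ Z iA' _ _ _ _ ((isQuot_iff hc I (n + 1) _).1
      (let ⟨w, hw⟩ := h.2.2 n; @isQuot_of_isIso_desc A _ Z iA _ _ _ _ w hw))⟩

theorem nonempty_completion_change (hc : Compat iA iA') (I : Ideal A) (M : Z.Modules) :
    Nonempty (@Formal.completion A' _ Z iA' (I.map (algebraMap A A')) M ≅ @Formal.completion A _ Z iA I M) :=
  @Algz27C.nonempty_completion_iso_of_quot A' _ Z iA' (I.map (algebraMap A A')) M _
    (fun n => @Formal.modPowπ A _ Z iA I (n + 1) M)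
    (fun n => by
      letI := iA
      simp only [Algz27C.completion_map]
      exact Formal.modPowπ_trans I (n + 1) M)
    (fun n => @IsQuot.isIso_desc A' _ Z iA' _ _ _ _ ((isQuot_iff hc I (n + 1) _).1 (@isQuot_modPowπ A _ Z iA I (n + 1) M)))

end ChangeRing

variable {A : Type u} [CommRing A] [IsNoetherianRing A] (I : Ideal A)

local notation "Â" => AdicCompletion I A
local notation "gC" => Spec.map (CommRingCat.ofHom (algebraMap A (AdicCompletion I A)))

theorem bijective_includeRight :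
    Function.Bijective (Algebra.TensorProduct.includeRight : A ⧸ I ^ (0 + 1) →ₐ[A] Â ⊗[A] (A ⧸ I ^ (0 + 1))) := by
  have hI1 : I ^ (0 + 1) = I := pow_one I
  let ev : Â →ₐ[A] A ⧸ I ^ (0 + 1) := (Ideal.quotientEquivAlgOfEq A hI1.symm).toAlgHom.comp (AdicCompletion.evalOneₐ I)
  refine ⟨fun x y h => ?_, fun z => ?_⟩
  · have e := congrArg (Algebra.TensorProduct.lift ev (AlgHom.id A (A ⧸ I ^ (0 + 1))) (fun _ _ => Commute.all _ _)) h
    simpa using e
  · induction z using TensorProduct.induction_on with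
    | zero => exact ⟨0, map_zero _⟩
    | add x y hx hy =>
      obtain ⟨a, rfl⟩ := hx
      obtain ⟨b, rfl⟩ := hy
      exact ⟨a + b, map_add _ _ _⟩
    | tmul x y =>
      obtain ⟨a, ha⟩ := Bootstrap27.exists_sub_mem_hat I x
      have hz : ∀ j ∈ I.map (algebraMap A Â), j ⊗ₜ[A] y = 0 := fun j hj => by
        induction hj using Submodule.span_induction generalizing y with
        | mem j hj =>
          obtain ⟨i, hi, rfl⟩ := hj
          rw [Algebra.algebraMap_eq_smul_one, TensorProduct.smul_tmul, Algebra.smul_def,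
            show algebraMap A (A ⧸ I ^ (0 + 1)) i = 0 from Ideal.Quotient.eq_zero_iff_mem.2 (hI1.ge hi), zero_mul,
            TensorProduct.tmul_zero]
        | zero => exact TensorProduct.zero_tmul _ _
        | add a b _ _ ha hb => rw [TensorProduct.add_tmul, ha, hb, add_zero]
        | smul c a _ ha =>
          rw [show (c • a) ⊗ₜ[A] y = (c ⊗ₜ[A] (1 : A ⧸ I ^ (0 + 1))) * a ⊗ₜ[A] y by
            rw [Algebra.TensorProduct.tmul_mul_tmul, one_mul, smul_eq_mul], ha, mul_zero]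
      refine ⟨a • y, ?_⟩
      rw [Algebra.TensorProduct.includeRight_apply, ← TensorProduct.smul_tmul, ← Algebra.algebraMap_eq_smul_one,
        show x = algebraMap A Â a + (x - algebraMap A Â a) by ring, TensorProduct.add_tmul, hz _ ha, add_zero]

theorem isIso_snd_cpl : IsIso (pullback.snd (gC) (CohB1.specQuot I 0)) := by
  haveI : IsIso (CommRingCat.ofHom (Algebra.TensorProduct.includeRight :
      A ⧸ I ^ (0 + 1) →ₐ[A] Â ⊗[A] (A ⧸ I ^ (0 + 1))).toRingHom) :=
    (ConcreteCategory.isIso_iff_bijective _).2 (bijective_includeRight I)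
  have e := pullbackSpecIso_inv_snd A Â (A ⧸ I ^ (0 + 1))
  rw [Iso.inv_comp_eq] at e
  have e' : pullback.snd (gC) (CohB1.specQuot I 0) =
      (pullbackSpecIso A Â (A ⧸ I ^ (0 + 1))).hom ≫ Spec.map (CommRingCat.ofHom
        (Algebra.TensorProduct.includeRight : A ⧸ I ^ (0 + 1) →ₐ[A] Â ⊗[A] (A ⧸ I ^ (0 + 1))).toRingHom) := e
  rw [e']
  infer_instance

theorem flat_gC : AlgebraicGeometry.Flat (gC) :=
  (HasRingHomProperty.Spec_iff (P := @AlgebraicGeometry.Flat)).2 (RingHom.flat_algebraMap_iff.2 inferInstance)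

theorem isIso_fn_cpl :
    letI : (Spec (CommRingCat.of A)).Over (Spec (CommRingCat.of A)) := ⟨𝟙 _⟩
    letI : (Spec (CommRingCat.of Â)).Over (Spec (CommRingCat.of A)) := ⟨gC⟩
    haveI : IsNoetherianRing Â := Bootstrap27.isNoetherianRing_hat I
    haveI := flat_gC I
    IsIso (FlatThick28.fn I (gC) (Category.comp_id _) 0) := by
  letI : (Spec (CommRingCat.of A)).Over (Spec (CommRingCat.of A)) := ⟨𝟙 _⟩
  letI : (Spec (CommRingCat.of Â)).Over (Spec (CommRingCat.of A)) := ⟨gC⟩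
  haveI : IsNoetherianRing Â := Bootstrap27.isNoetherianRing_hat I
  haveI := flat_gC I
  let F := FlatThick28.fn I (gC) (Category.comp_id _) 0
  let q : pullback (𝟙 (Spec (CommRingCat.of A))) (CohB1.specQuot I 0) ⟶ _ := pullback.snd _ _
  have e : F ≫ q = pullback.snd (gC) (CohB1.specQuot I 0) :=
    (pullback.lift_snd _ _ _).trans (Category.comp_id _)
  haveI : IsIso q := inferInstanceAs (IsIso (pullback.snd (𝟙 (Spec (CommRingCat.of A))) (CohB1.specQuot I 0)))
  haveI : IsIso (F ≫ q) := e ▸ isIso_snd_cpl I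
  exact IsIso.of_isIso_comp_right F q

theorem isIso_fn_restrict {X X' : Scheme.{u}} [IsNoetherian X] [IsNoetherian X'] [X.Over (Spec (CommRingCat.of A))] [X'.Over (Spec (CommRingCat.of A))]
    (f : X' ⟶ X) [Flat f] (hf : f ≫ (X ↘ Spec (CommRingCat.of A)) = X' ↘ Spec (CommRingCat.of A))
    (h : IsIso (FlatThick28.fn I f hf 0)) {W W' : Scheme.{u}} [IsNoetherian W] [IsNoetherian W'] [W.Over (Spec (CommRingCat.of A))]
    [W'.Over (Spec (CommRingCat.of A))] (j : W ⟶ X) [Flat j] (j' : W' ⟶ X') [Flat j'] (f' : W' ⟶ W) [Flat f'] (hsq : IsPullback j' f' f j)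
    (hj : j ≫ (X ↘ Spec (CommRingCat.of A)) = W ↘ Spec (CommRingCat.of A))
    (hj' : j' ≫ (X' ↘ Spec (CommRingCat.of A)) = W' ↘ Spec (CommRingCat.of A))
    (hf' : f' ≫ (W ↘ Spec (CommRingCat.of A)) = W' ↘ Spec (CommRingCat.of A)) :
    IsIso (FlatThick28.fn I f' hf' 0) := by
  have P1 := (FlatThick28.isPullback_fn I f' hf' 0).paste_horiz hsq
  have P2 := FlatThick28.isPullback_fn I f hf 0
  have e : FlatThick28.fn I f' hf' 0 ≫ FlatThick28.fn I j hj 0 =
      FlatThick28.fn I j' hj' 0 ≫ FlatThick28.fn I f hf 0 := by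
    apply pullback.hom_ext <;> simp [FlatThick28.fn, hsq.w]
  have P3 : IsPullback (FlatThick28.fn I j' hj' 0) (FlatThick28.fn I f' hf' 0) (FlatThick28.fn I f hf 0)
      (FlatThick28.fn I j hj 0) :=
    IsPullback.of_right (by
      rw [show FlatThick28.fn I j' hj' 0 ≫ FlatThick28.inc I X' 0 = FlatThick28.inc I W' 0 ≫ j' from
          FlatThick28.fn_inc I j' hj' 0,
        show FlatThick28.fn I j hj 0 ≫ FlatThick28.inc I X 0 = FlatThick28.inc I W 0 ≫ j from
          FlatThick28.fn_inc I j hj 0]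
      exact P1) e.symm P2
  exact MorphismProperty.of_isPullback (P := MorphismProperty.isomorphisms Scheme.{u}) P3 h

section Main

variable (𝔞 : Ideal A)

local notation "U₀" => LocCoh.puncturedOpen A 𝔞
set_option quotPrecheck false in
local notation "U₁" => gC ⁻¹ᵁ LocCoh.puncturedOpen A 𝔞

/-- The structure over `A` of the open of the completed spectrum. -/
@[implicit_reducible]
def overA : (U₁ : Scheme.{u}).Over (Spec (CommRingCat.of A)) := ⟨(U₁).ι ≫ gC⟩

theorem puncturedOpen_map : U₁ = LocCoh.puncturedOpen Â (𝔞.map (algebraMap A Â)) := by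
  ext x
  show ¬ (↑𝔞 ⊆ ((PrimeSpectrum.comap (algebraMap A Â) x).asIdeal : Set A)) ↔
    ¬ ((↑(𝔞.map (algebraMap A Â)) : Set Â) ⊆ (x : PrimeSpectrum Â).asIdeal)
  rw [SetLike.coe_subset_coe, SetLike.coe_subset_coe, Ideal.map_le_iff_le_comap]
  rfl

theorem exists_model {B : Type u} [CommRing B] [IsNoetherianRing B] (J : Ideal B)
    (W : (Spec (CommRingCat.of B)).Opens) (hW : W = LocCoh.puncturedOpen B J) (F : (W : Scheme.{u}).Modules)
    (hF : Coh.IsCoh F) : ∃ (N : ModuleCat.{u} B) (_ : Module.Finite B N),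
      Nonempty ((tilde (R := CommRingCat.of B) N).restrict W.ι ≅ F) := by
  subst hW
  exact PunctFree27.exists_finite_model J F hF

variable {I}

variable {𝔞}

/-- The criterion over the completion. -/
theorem extends_iff (G : ℕᵒᵖ ⥤ (U₀ : Scheme.{u}).Modules) (hG : Formal.IsCohFormal I G) :
    @Algz.Extends A _ (Spec (CommRingCat.of A)) ⟨𝟙 (Spec (CommRingCat.of A))⟩ I (U₀) G ↔
      ∃ F' : (U₁ : Scheme.{u}).Modules, Coh.IsCoh F' ∧
        Nonempty (@Formal.completion A _ _ (overA I 𝔞) I F' ≅ G ⋙ Scheme.Modules.pullback (gC ∣_ U₀)) := by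
  letI iY : (Spec (CommRingCat.of A)).Over (Spec (CommRingCat.of A)) := ⟨𝟙 _⟩
  letI iY' : (Spec (CommRingCat.of Â)).Over (Spec (CommRingCat.of A)) := ⟨gC⟩
  letI : (U₁ : Scheme.{u}).Over (Spec (CommRingCat.of A)) := overA I 𝔞
  haveI : IsNoetherianRing Â := Bootstrap27.isNoetherianRing_hat I
  haveI := flat_gC I
  haveI : IsNoetherian (U₀ : Scheme.{u}) :=
    haveI : QuasiCompact (U₀).ι := PunctFree27.quasiCompact_puncturedOpen 𝔞 (IsNoetherian.noetherian 𝔞)
    { toIsLocallyNoetherian := isLocallyNoetherian_of_isOpenImmersion (U₀).ι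
      toCompactSpace := QuasiCompact.compactSpace_of_compactSpace (U₀).ι }
  haveI : IsNoetherian (U₁ : Scheme.{u}) :=
    haveI : QuasiCompact (U₁).ι := MorphismProperty.of_isPullback (isPullback_morphismRestrict (gC) (U₀))
      (PunctFree27.quasiCompact_puncturedOpen 𝔞 (IsNoetherian.noetherian 𝔞))
    { toIsLocallyNoetherian := isLocallyNoetherian_of_isOpenImmersion (U₁).ι
      toCompactSpace := QuasiCompact.compactSpace_of_compactSpace (U₁).ι }
  haveI : AlgebraicGeometry.Flat (gC ∣_ U₀) :=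
    MorphismProperty.of_isPullback (isPullback_morphismRestrict (gC) (U₀)).flip inferInstance
  let g := gC
  let P := Scheme.Modules.pullback g
  let PU := Scheme.Modules.pullback (g ∣_ U₀)
  let R := Scheme.Modules.restrictFunctor (U₀).ι
  let R' := Scheme.Modules.restrictFunctor (U₁).ι
  let σ : R ⋙ PU ≅ P ⋙ R' :=
    Functor.isoWhiskerRight (Scheme.Modules.restrictFunctorIsoPullback (U₀).ι) PU ≪≫
      Scheme.Modules.pullbackComp (g ∣_ U₀) (U₀).ι ≪≫ Scheme.Modules.pullbackCongr (morphismRestrict_ι g U₀) ≪≫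
      (Scheme.Modules.pullbackComp (U₁).ι g).symm ≪≫
      Functor.isoWhiskerLeft P (Scheme.Modules.restrictFunctorIsoPullback (U₁).ι).symm
  have hf : g ≫ ((Spec (CommRingCat.of A)) ↘ Spec (CommRingCat.of A)) =
      (Spec (CommRingCat.of Â)) ↘ Spec (CommRingCat.of A) := Category.comp_id _
  have hfU : (g ∣_ U₀) ≫ ((U₀ : Scheme.{u}) ↘ Spec (CommRingCat.of A)) = (U₁ : Scheme.{u}) ↘ Spec (CommRingCat.of A) :=
    morphismRestrict_ι g U₀
  have hj : (U₀).ι ≫ ((Spec (CommRingCat.of A)) ↘ Spec (CommRingCat.of A)) =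
      (U₀ : Scheme.{u}) ↘ Spec (CommRingCat.of A) := Category.comp_id _
  have hj' : (U₁).ι ≫ ((Spec (CommRingCat.of Â)) ↘ Spec (CommRingCat.of A)) =
      (U₁ : Scheme.{u}) ↘ Spec (CommRingCat.of A) := rfl
  have hZ : IsIso (FlatThick28.fn I g hf 0) := isIso_fn_cpl I
  have hZU := isIso_fn_restrict I g hf hZ (U₀).ι (U₁).ι (g ∣_ U₀) (isPullback_morphismRestrict g U₀).flip hj hj' hfU
  constructor
  · rintro ⟨E, hE, ⟨e⟩⟩
    let E' := E ⋙ P
    have hE' : Formal.IsCohFormal I E' := by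
      refine ⟨fun n => M1.isCoh_pullback g (hE.1 n), fun n => killedBy_pullback g hf (hE.2.1 n), fun n => ?_⟩
      obtain ⟨h, hi⟩ := hE.2.2 n
      exact isQuot_pullback g hf _ h hi
    letI iYY : (Spec (CommRingCat.of Â)).Over (Spec (CommRingCat.of Â)) := ⟨𝟙 _⟩
    have hc : Compat iY' iYY := (Category.id_comp _).symm
    haveI := AdicCompletion.isAdicComplete_self I (IsNoetherian.noetherian I)
    obtain ⟨M, hM, ⟨eM⟩⟩ := Algz27C.exists_completion_iso_affine (I.map (algebraMap A Â)) (isCohFormal_change hc I hE')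
    obtain ⟨e0⟩ := nonempty_completion_change hc I (tilde M)
    haveI : Module.Finite (CommRingCat.of Â) M := hM
    have hMc : Coh.IsCoh (tilde M) := ⟨inferInstance, M1.isFT_tilde M⟩
    obtain ⟨e1⟩ := Algz27C.nonempty_completion_restrict I (U₁).ι hj' (tilde M)
    refine ⟨(tilde M).restrict (U₁).ι, DPerf.isCoh_restrict hMc _, ⟨e1.symm ≪≫ Functor.isoWhiskerRight (e0.symm ≪≫ eM) R' ≪≫ ?_⟩⟩
    exact Functor.associator E P R' ≪≫ Functor.isoWhiskerLeft E σ.symm ≪≫ (Functor.associator E R PU).symm ≪≫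
      Functor.isoWhiskerRight e PU
  · rintro ⟨F', hF', ⟨e⟩⟩
    obtain ⟨N, hN, ⟨eN⟩⟩ := exists_model (𝔞.map (algebraMap A Â)) _ (puncturedOpen_map I 𝔞) F' hF'
    haveI : Module.Finite (CommRingCat.of Â) N := hN
    have hNc : Coh.IsCoh (tilde (R := CommRingCat.of Â) N) := ⟨inferInstance, M1.isFT_tilde (R := CommRingCat.of Â) N⟩
    obtain ⟨E, hE, ⟨eE⟩⟩ := FlatThick28.exists_formal_preimage I g hf hZ _ (Algz27C.isCohFormal_completion I hNc)
    obtain ⟨e1⟩ := Algz27C.nonempty_completion_restrict I (U₁).ι hj' (tilde (R := CommRingCat.of Â) N)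
    have hER : Formal.IsCohFormal I (E ⋙ R) := Algz27C.isCohFormal_restrict (U₀).ι hj hE
    let ψ : (E ⋙ R) ⋙ PU ≅ G ⋙ PU :=
      Functor.associator E R PU ≪≫ Functor.isoWhiskerLeft E σ ≪≫ (Functor.associator E P R').symm ≪≫
        Functor.isoWhiskerRight eE R' ≪≫ e1 ≪≫ Algz27C.completionIso I eN ≪≫ e
    obtain ⟨φ, hφ⟩ := (FlatThick28.whiskerRight_bijective I (g ∣_ U₀) hfU hZU (E ⋙ R) G hER hG).2 ψ.hom
    obtain ⟨φ', hφ'⟩ := (FlatThick28.whiskerRight_bijective I (g ∣_ U₀) hfU hZU G (E ⋙ R) hG hER).2 ψ.inv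
    simp only at hφ hφ'
    refine ⟨E, hE, ⟨⟨φ, φ', ?_, ?_⟩⟩⟩
    · apply (FlatThick28.whiskerRight_bijective I (g ∣_ U₀) hfU hZU (E ⋙ R) (E ⋙ R) hER hER).1
      simp only [Functor.whiskerRight_comp, Functor.whiskerRight_id', hφ, hφ', Iso.hom_inv_id]
      exact (Functor.whiskerRight_id' PU).symm
    · apply (FlatThick28.whiskerRight_bijective I (g ∣_ U₀) hfU hZU G G hG hG).1
      simp only [Functor.whiskerRight_comp, Functor.whiskerRight_id', hφ, hφ', Iso.inv_hom_id]

theorem extends_iff_completion (G : ℕᵒᵖ ⥤ (U₀ : Scheme.{u}).Modules) (hG : Formal.IsCohFormal I G) :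
    @Algz.Extends A _ (Spec (CommRingCat.of A)) ⟨𝟙 (Spec (CommRingCat.of A))⟩ I (U₀) G ↔
      ∃ F' : (U₁ : Scheme.{u}).Modules, Coh.IsCoh F' ∧
        Nonempty (Formal.completion (I.map (algebraMap A Â)) F' ≅ G ⋙ Scheme.Modules.pullback (gC ∣_ U₀)) := by
  rw [extends_iff G hG]
  refine exists_congr fun F' => and_congr_right fun _ => ?_
  obtain ⟨e⟩ := nonempty_completion_change (iA := overA I 𝔞) (iA' := inferInstance) rfl I F'
  exact ⟨fun ⟨x⟩ => ⟨e ≪≫ x⟩, fun ⟨x⟩ => ⟨e.symm ≪≫ x⟩⟩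

/-- Invariance under maps with kernel and cokernel killed by a power. -/
theorem extends_iff_of_kerCoker (G G' : ℕᵒᵖ ⥤ (U₀ : Scheme.{u}).Modules) (hG : Formal.IsCohFormal I G)
    (hG' : Formal.IsCohFormal I G') (α : G ⟶ G') (hα : Formal2.KerCokerKilledByIPow I α) :
    @Algz.Extends A _ (Spec (CommRingCat.of A)) ⟨𝟙 (Spec (CommRingCat.of A))⟩ I (U₀) G ↔
      @Algz.Extends A _ (Spec (CommRingCat.of A)) ⟨𝟙 (Spec (CommRingCat.of A))⟩ I (U₀) G' := by
  rw [extends_iff G hG, extends_iff G' hG']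
  letI : (U₁ : Scheme.{u}).Over (Spec (CommRingCat.of A)) := overA I 𝔞
  haveI := flat_gC I
  haveI : IsNoetherianRing Â := Bootstrap27.isNoetherianRing_hat I
  haveI : IsNoetherian (U₁ : Scheme.{u}) :=
    haveI : QuasiCompact (U₁).ι := MorphismProperty.of_isPullback (isPullback_morphismRestrict (gC) (U₀))
      (PunctFree27.quasiCompact_puncturedOpen 𝔞 (IsNoetherian.noetherian 𝔞))
    { toIsLocallyNoetherian := isLocallyNoetherian_of_isOpenImmersion (U₁).ι
      toCompactSpace := QuasiCompact.compactSpace_of_compactSpace (U₁).ι }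
  haveI : AlgebraicGeometry.Flat (gC ∣_ U₀) :=
    MorphismProperty.of_isPullback (isPullback_morphismRestrict (gC) (U₀)).flip inferInstance
  have hfU : (gC ∣_ U₀) ≫ ((U₀ : Scheme.{u}) ↘ Spec (CommRingCat.of A)) = (U₁ : Scheme.{u}) ↘ Spec (CommRingCat.of A) :=
    morphismRestrict_ι _ U₀
  let PU := Scheme.Modules.pullback (gC ∣_ U₀)
  haveI : PreservesFiniteLimits PU := ModLimH13.preservesFiniteLimits_pullback_of_flat _
  have hPU : ∀ {H : ℕᵒᵖ ⥤ (U₀ : Scheme.{u}).Modules}, Formal.IsCohFormal I H → Formal.IsCohFormal I (H ⋙ PU) := by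
    intro H hH
    refine ⟨fun n => M1.isCoh_pullback _ (hH.1 n), fun n => killedBy_pullback _ hfU (hH.2.1 n), fun n => ?_⟩
    obtain ⟨h, hi⟩ := hH.2.2 n
    exact isQuot_pullback _ hfU _ h hi
  obtain ⟨t, ht⟩ := hα
  have key : ∀ {M N : (U₁ : Scheme.{u}).Modules} (a : M ⟶ N) (n : ℕ) (i : M ≅ PU.obj (G.obj (op n)))
      (i' : N ≅ PU.obj (G'.obj (op n))), a ≫ i'.hom = i.hom ≫ PU.map (α.app (op n)) →
      Formal.KilledBy (I ^ (t + 1)) (kernel a) ∧ Formal.KilledBy (I ^ (t + 1)) (cokernel a) := by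
    intro M N a n i i' hw
    exact ⟨killedBy_of_mono (kernel.mapIso _ _ i i' hw ≪≫ (PreservesKernel.iso PU (α.app (op n))).symm).hom
        (killedBy_pullback _ hfU (ht n).1),
      killedBy_of_mono (cokernel.mapIso _ _ i i' hw ≪≫ (PreservesCokernel.iso PU (α.app (op n))).symm).hom
        (killedBy_pullback _ hfU (ht n).2)⟩
  constructor
  · rintro ⟨F, hF, ⟨e⟩⟩
    obtain ⟨F', -, β, hF', -, -⟩ := FormalExtH7.existence_right (I := I) (hF := isSys_of_isCohFormal (hPU hG')) (hG := hF)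
      (e.hom ≫ Functor.whiskerRight α PU) ⟨t, fun n => key _ n (e.app (op n)) (Iso.refl _) (Category.comp_id _)⟩
    exact ⟨F', hF', ⟨β⟩⟩
  · rintro ⟨F, hF, ⟨e⟩⟩
    obtain ⟨F', -, β, hF', -, -⟩ := FormalExtH7.existence_left (I := I) hF (hPU hG)
      (Functor.whiskerRight α PU ≫ e.inv) ⟨t, fun n => key _ n (Iso.refl _) (e.app (op n))
        ((Category.assoc _ _ _).trans ((congrArg (_ ≫ ·) (e.inv_hom_id_app (op n))).trans
          ((Category.comp_id _).trans (Category.id_comp _).symm)))⟩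
    exact ⟨F', hF', ⟨β.symm⟩⟩

end Main

end Groth.Agent.Algz27X
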