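import Groth.Agent.Lib.Algz27.DimFun
import Groth.Agent.Lib.UCat26.DimFun
import Groth.Agent.Lib.UCat.Colimit
import Groth.Agent.Lib.AlgSpRel14.RelDim
import Groth.Agent.S12446
import Groth.Agent.S12447

/-!
# Change of scheme in the distance function
-/

set_option autoImplicit false
set_option linter.style.haveILetI false

universe u

set_option backward.isDefEq.respectTransparency.types false

open CategoryTheory AlgebraicGeometry TopologicalSpace Algz

namespace Groth.Agent.Algz27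

variable {X Y : Scheme.{u}} (f : X ⟶ Y) [LocallyOfFiniteType f]

theorem rd_restrict' (V : Y.Opens) (w : (f ⁻¹ᵁ V).toScheme) :
    FibDim14.rd (f ∣_ V) w = FibDim14.rd f ((f ⁻¹ᵁ V).ι w) := by
  have h1 := FibDim14.rd_comp (f ∣_ V) V.ι w
  have h2 := FibDim14.rd_comp (f ⁻¹ᵁ V).ι f w
  rw [morphismRestrict_ι] at h1
  rw [AlgSpRel14.rd_eq_zero_of_lqf V.ι, zero_add] at h1
  rw [AlgSpRel14.rd_eq_zero_of_lqf (f ⁻¹ᵁ V).ι, add_zero] at h2
  rw [← h1, h2]

/-- The dimension formula for a pair of specializing points, in terms of codimensions. -/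
theorem exists_codimPt_shift [IsLocallyNoetherian Y]
    (huc : ∀ y : Y, CAlg.IsUniversallyCatenary (Y.presheaf.stalk y)) {w v : X} (h : w ⤳ v) :
    ∃ a b : ℕ, codimPt w v h = a ∧ codimPt (f w) (f v) (h.map f.continuous) = b ∧
      (b : ℤ) + FibDim14.rd f w = a + FibDim14.rd f v := by
  obtain ⟨V, hV, δV, hδV⟩ := (S12447.result Y).1
    ((S12446.result Y).2 fun y => (huc y).2 _ inferInstance) (f v)
  have hd : Cyc.IsDimFun V.toScheme δV := fun x y hxy hne =>
    ⟨hδV.1 x y hxy hne, fun him => hδV.2 x y ⟨hxy, hne, him⟩⟩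
  have hucV : ∀ x : V.toScheme, CAlg.IsUniversallyCatenary (V.toScheme.presheaf.stalk x) := fun x =>
    UCat.isUniversallyCatenary_of_ringEquiv (V.stalkIso x).symm.commRingCatIsoToRingEquiv (huc x.1)
  haveI : LocallyOfFiniteType (f ∣_ V) :=
    IsZariskiLocalAtTarget.restrict (P := @LocallyOfFiniteType) inferInstance V
  let δU : (f ⁻¹ᵁ V).toScheme → ℤ := fun z => δV ((f ∣_ V) z) + FibDim14.rd (f ∣_ V) z
  have hdU : Cyc.IsDimFun (f ⁻¹ᵁ V).toScheme δU :=
    UCat26.isDimFun_of_deltaCompat (f ∣_ V) hucV hd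
      fun z => ⟨FibDim14.rd (f ∣_ V) z, FibDim14.rdeg_eq_rd _ _, rfl⟩
  let v' : (f ⁻¹ᵁ V).toScheme := ⟨v, hV⟩
  let w' : (f ⁻¹ᵁ V).toScheme := ⟨w, h.mem_open (f ⁻¹ᵁ V).isOpen hV⟩
  have hv : (f ⁻¹ᵁ V).ι v' = v := rfl
  have hw : (f ⁻¹ᵁ V).ι w' = w := rfl
  have h' : w' ⤳ v' := (f ⁻¹ᵁ V).ι.isOpenEmbedding.isInducing.specializes_iff.1 h
  have hfv : V.ι ((f ∣_ V) v') = f v := by
    rw [← Scheme.Hom.comp_apply, morphismRestrict_ι]; rfl
  have hfw : V.ι ((f ∣_ V) w') = f w := by
    rw [← Scheme.Hom.comp_apply, morphismRestrict_ι]; rfl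
  have hX : codimPt w v h = ((δU w' - δU v').toNat : ℕ∞) :=
    (codimPt_isOpenEmbedding _ (f ⁻¹ᵁ V).ι.isOpenEmbedding h').trans (codimPt_eq hdU h')
  have hY : codimPt (f w) (f v) (h.map f.continuous) =
      ((δV ((f ∣_ V) w') - δV ((f ∣_ V) v')).toNat : ℕ∞) :=
    (codimPt_congr hfw.symm hfv.symm _ ((h'.map (f ∣_ V).continuous).map V.ι.continuous)).trans
      ((codimPt_isOpenEmbedding _ V.ι.isOpenEmbedding (h'.map (f ∣_ V).continuous)).trans (codimPt_eq hd _))
  refine ⟨_, _, hX, hY, ?_⟩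
  have h1 := UCat26.delta_le_of_specializes hdU h'
  have h2 := UCat26.delta_le_of_specializes hd (h'.map (f ∣_ V).continuous)
  have e1 : FibDim14.rd (f ∣_ V) w' = FibDim14.rd f w := rd_restrict' f V w'
  have e2 : FibDim14.rd (f ∣_ V) v' = FibDim14.rd f v := rd_restrict' f V v'
  rw [Int.toNat_of_nonneg (sub_nonneg.2 h1), Int.toNat_of_nonneg (sub_nonneg.2 h2)]
  simp only [δU, e1, e2]
  ring

theorem sum_shift {k : ℕ} (g : Fin (k + 1) → ℤ) (i : Fin (k + 1)) :
    ∑ j : Fin (k + 1), (if i ≤ j then g j else 0) -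
      ∑ j : Fin k, (if i.val ≤ j.val then g j.succ else 0) = g i := by
  have h1 : ∀ j : Fin k, (if i ≤ j.succ then g j.succ else 0) =
      (if i.val ≤ j.val then g j.succ else 0) + (if i = j.succ then g j.succ else 0) := by
    intro j
    by_cases ha : i.val ≤ j.val
    · rw [if_pos ha, if_pos (Fin.le_def.2 (by simp; omega)), if_neg (fun e => by
        have := congrArg Fin.val e; simp at this; omega), add_zero]
    · by_cases hb : i = j.succ
      · rw [if_neg ha, if_pos hb, if_pos hb.le, zero_add]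
      · rw [if_neg ha, if_neg hb, if_neg (fun hle => hb (Fin.ext (by
          have := Fin.le_def.1 hle; simp at this ⊢; omega))), add_zero]
  have h2 : g i = ∑ j : Fin (k + 1), (if i = j then g j else 0) := by simp
  rw [h2, Fin.sum_univ_succ, Fin.sum_univ_succ (fun j => if i = j then g j else 0), Finset.sum_congr rfl fun j _ => h1 j,
    Finset.sum_add_distrib]
  have h3 : (if i ≤ 0 then g 0 else 0) = if i = 0 then g 0 else 0 := by simp only [Fin.le_zero_iff]
  rw [h3]
  abel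

theorem sum_shift' {k : ℕ} (g : Fin (k + 1) → ℤ) (i : Fin (k + 1)) :
    ∑ j : Fin (k + 1), (if i ≤ j then g j else 0) -
      ∑ j : Fin k, (if i.val ≤ j.val then g j.castSucc else 0) = g (Fin.last k) := by
  rw [Fin.sum_univ_castSucc, if_pos (Fin.le_last i)]
  simp [Fin.le_def]

/-- Change of scheme inequality for the distance function. -/
theorem deltaZ_add_le [IsLocallyNoetherian Y]
    (huc : ∀ y : Y, CAlg.IsUniversallyCatenary (Y.presheaf.stalk y)) (Z : Set Y) (e : ℕ)
    (he : ∀ x : X, FibDim14.rd f x ≤ e) (y : X) :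
    deltaZ Z (f y) + FibDim14.rd f y ≤ deltaZ (f ⁻¹' Z) y + e := by
  classical
  by_cases htop : deltaZ (f ⁻¹' Z) y = ⊤
  · rw [htop, top_add]; exact le_top
  obtain ⟨n, hn⟩ := ENat.ne_top_iff_exists.1 htop
  obtain ⟨k, S, hS⟩ : ∃ (k : ℕ) (S : DSystem (f ⁻¹' Z) y k), S.delta < (n : ℕ∞) + 1 := by
    by_contra hcon
    push Not at hcon
    have h1 : ((n + 1 : ℕ) : ℕ∞) ≤ deltaZ (f ⁻¹' Z) y := le_iInf₂ fun k S => by exact_mod_cast hcon k S
    rw [← hn] at h1
    exact absurd (Nat.cast_le.1 h1) (by omega)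
  let S' : DSystem Z (f y) k :=
    { v := f ∘ S.v
      w := f ∘ S.w
      spec := fun i => (S.spec i).map f.continuous
      spec_succ := fun i => (S.spec_succ i).map f.continuous
      start_mem := S.start_mem
      last_eq := congrArg f S.last_eq }
  choose c c' hc hc' hcc using fun j => exists_codimPt_shift f huc (S.spec j)
  choose b b' hb hb' hbb using fun j => exists_codimPt_shift f huc (S.spec_succ j)
  have hSn : S.delta ≤ n := (ENat.lt_add_one_iff (ENat.natCast_ne_top n)).1 hS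
  rw [← hn]
  refine le_trans ?_ (add_le_add hSn le_rfl)
  refine (add_le_add (deltaZ_le_of_system S') le_rfl).trans ?_
  simp only [DSystem.delta, add_assoc]
  refine add_le_add le_rfl ?_
  obtain ⟨i, -, hi⟩ := Finset.exists_mem_eq_sup (Finset.univ : Finset (Fin (k + 1))) Finset.univ_nonempty (term S')
  refine le_trans (le_of_eq (congrArg (· + (FibDim14.rd f y : ℕ∞)) hi)) ?_
  refine le_trans ?_ (add_le_add (Finset.le_sup (f := term S) (Finset.mem_univ i)) le_rfl)
  have eC : ∀ j, S.c j = c j := hc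
  have eB : ∀ j, S.b j = b j := hb
  have eC' : ∀ j, S'.c j = c' j := hc'
  have eB' : ∀ j, S'.b j = b' j := hb'
  simp only [term, eC, eB, eC', eB', ← Nat.cast_sum, ← ENat.coe_sub, ← Nat.cast_add, Nat.cast_le]
  have key : ((∑ j ∈ Finset.univ.filter (fun j : Fin (k + 1) => i ≤ j), c' j : ℕ) : ℤ) -
      ((∑ j ∈ Finset.univ.filter (fun j : Fin k => i.val ≤ j.val), b' j : ℕ) : ℤ) + FibDim14.rd f y =
    ((∑ j ∈ Finset.univ.filter (fun j : Fin (k + 1) => i ≤ j), c j : ℕ) : ℤ) -
      ((∑ j ∈ Finset.univ.filter (fun j : Fin k => i.val ≤ j.val), b j : ℕ) : ℤ) + FibDim14.rd f (S.v i) := by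
    have h1 := sum_shift (fun j => (FibDim14.rd f (S.v j) : ℤ)) i
    have h2 := sum_shift' (fun j => (FibDim14.rd f (S.w j) : ℤ)) i
    rw [S.last_eq] at h2
    have h3 : ∀ j, (c' j : ℤ) = c j + (FibDim14.rd f (S.v j) - FibDim14.rd f (S.w j)) := fun j => by
      have := hcc j; omega
    have h4 : ∀ j, (b' j : ℤ) = b j + (FibDim14.rd f (S.v j.succ) - FibDim14.rd f (S.w j.castSucc)) := fun j => by
      have := hbb j; omega
    simp only [Nat.cast_sum, h3, h4, Finset.sum_add_distrib, Finset.sum_sub_distrib]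
    simp only [Finset.sum_filter] at h1 h2 ⊢
    linarith
  have h5 := he (S.v i)
  have h6 := he y
  omega

end Groth.Agent.Algz27
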