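import Groth.Prelude.Def_Algz
import Mathlib.AlgebraicGeometry.Stalk
import Mathlib.Order.KrullDimension
import Mathlib.RingTheory.KrullDimension.Basic

/-!
# The distance function `deltaZ`
-/

set_option autoImplicit false

universe u

open AlgebraicGeometry TopologicalSpace

namespace Groth.Agent.Algz27

open Algz

variable {Y : Type u} [TopologicalSpace Y]

/-- The upper cone of a point. -/
abbrev Cone (v : Y) := Set.Ici (Specialization.toEquiv v)

theorem codimPt_congr {w w' v v' : Y} (hw : w = w') (hv : v = v') (h : w ⤳ v) (h' : w' ⤳ v') :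
    codimPt w v h = codimPt w' v' h' := by
  subst hw hv; rfl

theorem codimPt_self {v : Y} (h : v ⤳ v) : codimPt v v h = 0 :=
  Order.height_eq_zero.2 fun b _ => b.2

theorem specializes_of_codimPt_eq_zero {w v : Y} (h : w ⤳ v) (h0 : codimPt w v h = 0) : v ⤳ w :=
  (Order.height_eq_zero.1 h0) (b := (⟨Specialization.toEquiv v, le_refl (Specialization.toEquiv v)⟩ : Cone v)) h

theorem one_le_codimPt {w v : Y} (h : w ⤳ v) (hne : ¬ v ⤳ w) : 1 ≤ codimPt w v h :=
  Order.one_le_iff_ne_zero.2 fun h0 => hne (specializes_of_codimPt_eq_zero h h0)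

theorem codimPt_le_of_specializes {w v v' : Y} (h : w ⤳ v) (h' : w ⤳ v') (hv : v ⤳ v') :
    codimPt w v h ≤ codimPt w v' h' :=
  Order.height_le_height_apply_of_strictMono
    (fun x : Cone v => (⟨x.1, le_trans (show Specialization.toEquiv v' ≤ Specialization.toEquiv v from hv) x.2⟩ : Cone v'))
    (fun _ _ hab => hab) _

/-- Codimensions are computed in any open containing the smaller point. -/
theorem codimPt_isOpenEmbedding {Y' : Type u} [TopologicalSpace Y'] (f : Y' → Y) (hf : Topology.IsOpenEmbedding f)
    {w v : Y'} (h : w ⤳ v) : codimPt (f w) (f v) (h.map hf.continuous) = codimPt w v h := by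
  let g : Cone v → Cone (f v) := fun x => ⟨Specialization.toEquiv (f (Specialization.ofEquiv x.1)),
    (show Specialization.ofEquiv x.1 ⤳ v from x.2).map hf.continuous⟩
  have hle : ∀ a b : Cone v, g a ≤ g b ↔ a ≤ b := fun a b =>
    (hf.isInducing.specializes_iff : f (Specialization.ofEquiv b.1) ⤳ f (Specialization.ofEquiv a.1) ↔ _)
  have hbij : Function.Bijective g := by
    refine ⟨fun a b hab => Subtype.ext (hf.injective (congrArg Subtype.val hab)), fun x => ?_⟩
    obtain ⟨z, hz⟩ := (show Specialization.ofEquiv x.1 ⤳ f v from x.2).mem_open hf.isOpen_range ⟨v, rfl⟩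
    refine ⟨⟨Specialization.toEquiv z, (hf.isInducing.specializes_iff.1 (hz ▸ x.2) : z ⤳ v)⟩, Subtype.ext ?_⟩
    exact hz
  let e : Cone v ≃o Cone (f v) := ⟨Equiv.ofBijective g hbij, fun {a b} => hle a b⟩
  exact Order.height_orderIso e ⟨Specialization.toEquiv w, h⟩

theorem deltaZ_le_of_system {Z : Set Y} {y : Y} {k : ℕ} (S : DSystem Z y k) : deltaZ Z y ≤ S.delta :=
  iInf₂_le k S

/-- Push a system forward along an open embedding. -/
theorem deltaZ_le_isOpenEmbedding {Y' : Type u} [TopologicalSpace Y'] (f : Y' → Y)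
    (hf : Topology.IsOpenEmbedding f) (Z : Set Y) (y : Y') : deltaZ Z (f y) ≤ deltaZ (f ⁻¹' Z) y := by
  refine le_iInf₂ fun k S => ?_
  let S' : DSystem Z (f y) k :=
    { v := f ∘ S.v
      w := f ∘ S.w
      spec := fun i => (S.spec i).map hf.continuous
      spec_succ := fun i => (S.spec_succ i).map hf.continuous
      start_mem := S.start_mem
      last_eq := congrArg f S.last_eq }
  refine (deltaZ_le_of_system S').trans (le_of_eq ?_)
  simp only [DSystem.delta, show S'.c = S.c from funext fun i => codimPt_isOpenEmbedding f hf _,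
    show S'.b = S.b from funext fun i => codimPt_isOpenEmbedding f hf _]

/-- The maximum in the value of a system. -/
noncomputable def term {Z : Set Y} {y : Y} {k : ℕ} (S : DSystem Z y k) (i : Fin (k + 1)) : ℕ∞ :=
  (∑ j ∈ Finset.univ.filter (fun j : Fin (k + 1) => i ≤ j), S.c j) -
    ∑ j ∈ Finset.univ.filter (fun j : Fin k => i.val ≤ j.val), S.b j

theorem deltaZ_le_specializes {Z : Set Y} (hZ : IsClosed Z) {y y' : Y} (h : y ⤳ y') (hne : ¬ y' ⤳ y) :
    deltaZ Z y' ≤ deltaZ Z y := by
  classical
  refine le_iInf₂ fun k S => ?_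
  have hdelta : S.delta = (k : ℕ∞) + Finset.univ.sup (term S) := rfl
  by_cases hM : Finset.univ.sup (term S) = 0
  · have hck : S.c (Fin.last k) = 0 := by
      have h0 := Finset.sup_eq_bot_iff (f := term S) (S := Finset.univ) |>.1 hM (Fin.last k) (Finset.mem_univ _)
      have e1 : (Finset.univ.filter (fun j : Fin (k + 1) => Fin.last k ≤ j)) = {Fin.last k} := by
        ext j; simp [Fin.last_le_iff]
      have e2 : (Finset.univ.filter (fun j : Fin k => (Fin.last k).val ≤ j.val)) = ∅ := by
        ext j; simp
      rw [term, e1, e2, Finset.sum_singleton, Finset.sum_empty, tsub_zero] at h0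
      exact h0
    have hvy : S.v (Fin.last k) ⤳ y' := by
      have := specializes_of_codimPt_eq_zero (S.spec (Fin.last k)) hck
      exact (S.last_eq ▸ this).trans h
    let v' := Function.update S.v (Fin.last k) y'
    let w' := Function.update S.w (Fin.last k) y'
    have hvne : ∀ i : Fin (k + 1), i ≠ Fin.last k → v' i = S.v i := fun i hi => Function.update_of_ne hi _ _
    have hwne : ∀ i : Fin (k + 1), i ≠ Fin.last k → w' i = S.w i := fun i hi => Function.update_of_ne hi _ _
    have hv : v' (Fin.last k) = y' := Function.update_self _ _ _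
    have hw : w' (Fin.last k) = y' := Function.update_self _ _ _
    have hvs : ∀ i, S.v i ⤳ v' i := fun i => by
      by_cases hi : i = Fin.last k
      · subst hi; rw [hv]; exact hvy
      · rw [hvne i hi]
    let S' : DSystem Z y' k :=
      { v := v'
        w := w'
        spec := fun i => by
          by_cases hi : i = Fin.last k
          · subst hi; rw [hv, hw]
          · rw [hvne i hi, hwne i hi]; exact S.spec i
        spec_succ := fun i => by
          rw [hwne _ (Fin.castSucc_lt_last i).ne]
          exact (S.spec_succ i).trans (hvs _)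
        start_mem := (hvs 0).mem_closed hZ S.start_mem
        last_eq := hw }
    refine (deltaZ_le_of_system S').trans ?_
    rw [hdelta]
    refine add_le_add le_rfl (Finset.sup_mono_fun fun i _ => ?_)
    refine tsub_le_tsub (Finset.sum_le_sum fun j _ => ?_) (Finset.sum_le_sum fun j _ => ?_)
    · by_cases hj : j = Fin.last k
      · subst hj
        exact (le_of_eq ((codimPt_congr hw hv _ (specializes_refl y')).trans (codimPt_self _))).trans bot_le
      · exact le_of_eq (codimPt_congr (hwne j hj) (hvne j hj) _ _)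
    · exact (codimPt_le_of_specializes (S.spec_succ j) ((S.spec_succ j).trans (hvs _)) (hvs _)).trans
        (le_of_eq (codimPt_congr (hwne _ (Fin.castSucc_lt_last j).ne).symm rfl _ _))
  · let v' : Fin (k + 1 + 1) → Y := Fin.snoc S.v y'
    let w' : Fin (k + 1 + 1) → Y := Fin.snoc S.w y'
    have hv : ∀ i : Fin (k + 1), v' i.castSucc = S.v i := fun i => Fin.snoc_castSucc (α := fun _ => Y) _ _ i
    have hw : ∀ i : Fin (k + 1), w' i.castSucc = S.w i := fun i => Fin.snoc_castSucc (α := fun _ => Y) _ _ i
    have hvl : v' (Fin.last (k + 1)) = y' := Fin.snoc_last (α := fun _ => Y) _ _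
    have hwl : w' (Fin.last (k + 1)) = y' := Fin.snoc_last (α := fun _ => Y) _ _
    let S' : DSystem Z y' (k + 1) :=
      { v := v'
        w := w'
        spec := fun i => by
          induction i using Fin.lastCases with
          | last => rw [hvl, hwl]
          | cast i => rw [hv, hw]; exact S.spec i
        spec_succ := fun i => by
          induction i using Fin.lastCases with
          | last => rw [hw, Fin.succ_last, hvl, S.last_eq]; exact h
          | cast i => rw [hw, show (i.castSucc).succ = i.succ.castSucc from rfl, hv]; exact S.spec_succ i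
        start_mem := by
          rw [show (0 : Fin (k + 1 + 1)) = (0 : Fin (k + 1)).castSucc from rfl, hv]; exact S.start_mem
        last_eq := hwl }
    have hc : ∀ i : Fin (k + 1), S'.c i.castSucc = S.c i := fun i => codimPt_congr (hw i) (hv i) _ _
    have hcl : S'.c (Fin.last (k + 1)) = 0 :=
      (codimPt_congr hwl hvl _ (specializes_refl y')).trans (codimPt_self _)
    have hb : ∀ i : Fin k, S'.b i.castSucc = S.b i := fun i =>
      codimPt_congr (hw _) (by show v' i.castSucc.succ = _; rw [show (i.castSucc).succ = i.succ.castSucc from rfl, hv]) _ _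
    have hbl : 1 ≤ S'.b (Fin.last k) :=
      (one_le_codimPt h hne).trans (le_of_eq (codimPt_congr ((hw _).trans S.last_eq).symm
        (by rw [Fin.succ_last]; exact hvl.symm) _ _))
    refine (deltaZ_le_of_system S').trans ?_
    rw [hdelta, show S'.delta = ((k + 1 : ℕ) : ℕ∞) + Finset.univ.sup (term S') from rfl]
    have hsup : Finset.univ.sup (term S') ≤ Finset.univ.sup (term S) - 1 := by
      refine Finset.sup_le fun i _ => ?_
      induction i using Fin.lastCases with
      | last =>
        have e1 : (Finset.univ.filter (fun j : Fin (k + 1 + 1) => Fin.last (k + 1) ≤ j)) = {Fin.last (k + 1)} := by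
          ext j; simp [Fin.last_le_iff]
        show _ - _ ≤ _
        rw [e1, Finset.sum_singleton, hcl, zero_tsub]
        exact bot_le
      | cast i =>
        have eC : (∑ j ∈ Finset.univ.filter (fun j : Fin (k + 1 + 1) => i.castSucc ≤ j), S'.c j) =
            ∑ j ∈ Finset.univ.filter (fun j : Fin (k + 1) => i ≤ j), S.c j := by
          rw [Finset.sum_filter, Finset.sum_filter, Fin.sum_univ_castSucc]
          simp [hc, hcl]
        have eB : (∑ j ∈ Finset.univ.filter (fun j : Fin (k + 1) => (i.castSucc).val ≤ j.val), S'.b j) =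
            (∑ j ∈ Finset.univ.filter (fun j : Fin k => i.val ≤ j.val), S.b j) + S'.b (Fin.last k) := by
          rw [Finset.sum_filter, Finset.sum_filter, Fin.sum_univ_castSucc]
          simp [hb, Fin.is_le]
        show _ - _ ≤ _
        rw [eC, eB, ← tsub_tsub]
        exact tsub_le_tsub (Finset.le_sup (f := term S) (Finset.mem_univ i)) hbl
    calc ((k + 1 : ℕ) : ℕ∞) + Finset.univ.sup (term S') ≤ ((k + 1 : ℕ) : ℕ∞) + (Finset.univ.sup (term S) - 1) :=
          add_le_add le_rfl hsup
      _ = (k : ℕ∞) + Finset.univ.sup (term S) := by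
          rw [Nat.cast_add, Nat.cast_one, add_assoc, add_tsub_cancel_of_le (Order.one_le_iff_ne_zero.2 hM)]

/-- The one-step system. -/
theorem deltaZ_le_codimPt {Z : Set Y} {y z : Y} (h : y ⤳ z) (hz : z ∈ Z) : deltaZ Z y ≤ codimPt y z h := by
  let S : DSystem Z y 0 :=
    { v := fun _ => z, w := fun _ => y, spec := fun _ => h, spec_succ := fun i => i.elim0,
      start_mem := hz, last_eq := rfl }
  refine (deltaZ_le_of_system S).trans (le_of_eq ?_)
  simp [DSystem.delta, DSystem.c, S]

/-- Codimension is bounded by the dimension of the local ring of the closure. -/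
theorem codimPt_le_ringKrullDim {X : Scheme.{u}} {y z : X} (h : y ⤳ z) (P : PrimeSpectrum (X.presheaf.stalk z))
    (hP : X.fromSpecStalk z P = y) :
    ((codimPt y z h : ℕ∞) : WithBot ℕ∞) ≤ ringKrullDim (X.presheaf.stalk z ⧸ P.asIdeal) := by
  rw [ringKrullDim_quotient, ← Order.krullDim_orderDual (α := PrimeSpectrum.zeroLocus (P.asIdeal : Set (X.presheaf.stalk z)))]
  show ((Order.height (⟨Specialization.toEquiv y, h⟩ : Cone z) : ℕ∞) : WithBot ℕ∞) ≤ _
  rw [Order.height_eq_krullDim_Iic]
  have hinj := (X.fromSpecStalk z).isEmbedding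
  have hex : ∀ x : Set.Iic (⟨Specialization.toEquiv y, h⟩ : Cone z),
      ∃ Q : PrimeSpectrum (X.presheaf.stalk z), X.fromSpecStalk z Q = Specialization.ofEquiv x.1.1 ∧
        P.asIdeal ≤ Q.asIdeal := fun x => by
    obtain ⟨Q, hQ⟩ : Specialization.ofEquiv x.1.1 ∈ Set.range (X.fromSpecStalk z) := by
      rw [Scheme.range_fromSpecStalk]; exact x.1.2
    refine ⟨Q, hQ, (PrimeSpectrum.le_iff_specializes P Q).2 (hinj.isInducing.specializes_iff.1 ?_)⟩
    rw [hP, hQ]
    exact x.2
  choose Q hQ hPQ using hex
  refine Order.krullDim_le_of_strictMono (fun x => OrderDual.toDual ⟨Q x, hPQ x⟩) fun a b hab => ?_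
  have hle : ∀ a b, a ≤ b → Q b ≤ Q a := fun a b hab' =>
    (PrimeSpectrum.le_iff_specializes (Q b) (Q a)).2 (hinj.isInducing.specializes_iff.1 (by rw [hQ, hQ]; exact hab'))
  refine lt_of_le_of_ne (hle a b hab.le) fun e => hab.not_ge ?_
  have : Q b = Q a := congrArg (fun q => (OrderDual.ofDual q).1) e.symm |>.trans rfl
  show Specialization.ofEquiv a.1.1 ⤳ Specialization.ofEquiv b.1.1
  rw [← hQ, ← hQ, this]

end Groth.Agent.Algz27

namespace Groth.Agent.Algz27

open Algz

variable {Y : Type u} [TopologicalSpace Y]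

theorem codimPt_le_one {w v : Y} (h : w ⤳ v)
    (hbet : ∀ z : Y, w ⤳ z → z ⤳ v → z = w ∨ z = v) : codimPt w v h ≤ 1 := by
  refine (Order.height_le_coe_iff (n := 1)).2 fun b hb => ?_
  have hmin : IsMin b := by
    rcases hbet (Specialization.ofEquiv b.1) hb.le b.2 with e | e
    · exact absurd (show w ⤳ Specialization.ofEquiv b.1 ∧ Specialization.ofEquiv b.1 ⤳ w from
        ⟨hb.le, e ▸ specializes_refl _⟩).2 hb.not_ge
    · intro c _
      show Specialization.ofEquiv c.1 ⤳ Specialization.ofEquiv b.1
      rw [e]; exact c.2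
  rw [Order.height_eq_zero.2 hmin]
  exact zero_lt_one

theorem deltaZ_le_zigzag [T0Space Y] {Z : Set Y} (k : ℕ) (y : Fin (k + 1) → Y) (y' : Fin k → Y) (h0 : y 0 ∈ Z)
    (hdown : ∀ i : Fin k, y' i ⤳ y i.castSucc ∧ y' i ≠ y i.castSucc ∧
      ∀ z : Y, y' i ⤳ z → z ⤳ y i.castSucc → z = y' i ∨ z = y i.castSucc)
    (hup : ∀ i : Fin k, y' i ⤳ y i.succ ∧ y' i ≠ y i.succ) : deltaZ Z (y (Fin.last k)) ≤ k := by
  classical
  let w : Fin (k + 1) → Y := Fin.snoc y' (y (Fin.last k))
  have hw : ∀ i : Fin k, w i.castSucc = y' i := fun i => Fin.snoc_castSucc (α := fun _ => Y) _ _ i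
  have hwl : w (Fin.last k) = y (Fin.last k) := Fin.snoc_last (α := fun _ => Y) _ _
  let S : DSystem Z (y (Fin.last k)) k :=
    { v := y
      w := w
      spec := fun i => by
        induction i using Fin.lastCases with
        | last => rw [hwl]
        | cast i => rw [hw]; exact (hdown i).1
      spec_succ := fun i => by rw [hw]; exact (hup i).1
      start_mem := h0
      last_eq := hwl }
  have hcl : S.c (Fin.last k) = 0 := (codimPt_congr hwl rfl _ (specializes_refl _)).trans (codimPt_self _)
  have hc : ∀ i : Fin k, S.c i.castSucc ≤ 1 := fun i =>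
    (le_of_eq (codimPt_congr (hw i) rfl _ (hdown i).1)).trans (codimPt_le_one _ (hdown i).2.2)
  have hb : ∀ i : Fin k, 1 ≤ S.b i := fun i =>
    (one_le_codimPt (hup i).1 fun h => (hup i).2 ((hup i).1.antisymm h).eq).trans
      (le_of_eq (codimPt_congr (hw i).symm rfl _ _))
  refine (deltaZ_le_of_system S).trans ?_
  show (k : ℕ∞) + Finset.univ.sup (term S) ≤ k
  have hs : Finset.univ.sup (term S) ≤ 0 := Finset.sup_le fun i _ => by
    show _ - _ ≤ _
    rw [tsub_le_iff_right, zero_add, Finset.sum_filter, Finset.sum_filter, Fin.sum_univ_castSucc, hcl, ite_self,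
      add_zero]
    refine Finset.sum_le_sum fun j _ => ?_
    by_cases hij : i ≤ j.castSucc
    · rw [if_pos hij, if_pos (show i.val ≤ j.val from hij)]
      exact (hc j).trans (hb j)
    · rw [if_neg hij]; exact bot_le
  exact (add_le_add le_rfl hs).trans (le_of_eq (add_zero _))

end Groth.Agent.Algz27
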