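import Groth.Agent.Lib.Algz27.DeltaZ
import Groth.Prelude.Def_Cyc
import Mathlib.Order.KrullDimension
import Mathlib.Algebra.BigOperators.Fin
import Mathlib.Tactic.Linarith

/-!
# Dimension functions and `deltaZ`
-/

set_option autoImplicit false

universe u

open AlgebraicGeometry TopologicalSpace

namespace Groth.Agent.Algz27

open Algz

variable {X : Scheme.{u}} {δ : X → ℤ}

theorem exists_top_step (hδ : Cyc.IsDimFun X δ) {w v : X} (h : w ⤳ v) (hne : w ≠ v) :
    ∃ z : X, w ⤳ z ∧ z ⤳ v ∧ w ≠ z ∧ δ w = δ z + 1 := by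
  classical
  have hbd : ∀ d : ℤ, (∃ z : X, w ⤳ z ∧ z ⤳ v ∧ w ≠ z ∧ δ z = d) → d ≤ δ w := by
    rintro _ ⟨z, hwz, -, hne', rfl⟩
    exact ((hδ w z hwz hne').1).le
  obtain ⟨d, ⟨z, hwz, hzv, hne', rfl⟩, hmax⟩ := Int.exists_greatest_of_bdd
    (P := fun d => ∃ z : X, w ⤳ z ∧ z ⤳ v ∧ w ≠ z ∧ δ z = d) ⟨δ w, hbd⟩ ⟨δ v, v, h, specializes_refl v, hne, rfl⟩
  refine ⟨z, hwz, hzv, hne', (hδ w z hwz hne').2 fun x hwx hxz => ?_⟩
  by_contra hx
  push Not at hx
  have h1 := (hδ x z hxz hx.2).1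
  have h2 := hmax _ ⟨x, hwx, hxz.trans hzv, Ne.symm hx.1, rfl⟩
  omega

/-- The codimension is the difference of the dimension function. -/
theorem codimPt_eq (hδ : Cyc.IsDimFun X δ) {w v : X} (h : w ⤳ v) :
    codimPt w v h = ((δ w - δ v).toNat : ℕ∞) := by
  have hmono : ∀ a b : X, b ⤳ a → δ a ≤ δ b := fun a b hab => by
    by_cases e : b = a
    · rw [e]
    · exact ((hδ b a hab e).1).le
  refine le_antisymm ?_ ?_
  · have hsm : StrictMono fun x : Cone v => (δ (Specialization.ofEquiv x.1) - δ v).toNat := fun a b hab => by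
      have hne : Specialization.ofEquiv b.1 ≠ Specialization.ofEquiv a.1 := fun e =>
        hab.not_ge (show Specialization.ofEquiv a.1 ⤳ Specialization.ofEquiv b.1 by rw [e])
      have h1 := (hδ (Specialization.ofEquiv b.1) (Specialization.ofEquiv a.1) hab.le hne).1
      have h2 := hmono v (Specialization.ofEquiv a.1) a.2
      simp only
      omega
    refine (Order.height_le_height_apply_of_strictMono _ hsm _).trans ?_
    rw [Order.height_nat]
    exact le_rfl
  · generalize hn : (δ w - δ v).toNat = n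
    induction n generalizing w with
    | zero => exact bot_le
    | succ n ih =>
      have hne : w ≠ v := fun e => by subst e; simp at hn
      obtain ⟨z, hwz, hzv, hne', hz⟩ := exists_top_step hδ h hne
      have h1 := ih hzv (by omega)
      have hlt : (⟨Specialization.toEquiv z, hzv⟩ : Cone v) < ⟨Specialization.toEquiv w, h⟩ :=
        lt_of_le_not_ge hwz fun hh => hne' ((hwz.antisymm hh).eq)
      rw [Nat.cast_succ]
      exact (add_le_add h1 le_rfl).trans (Order.height_add_one_le hlt)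

theorem exists_dimFun_le (hδ : Cyc.IsDimFun X δ) {Z : Set X} {y : X} {n : ℕ} (hn : deltaZ Z y = n) :
    ∃ z ∈ Z, δ y ≤ n + δ z := by
  classical
  obtain ⟨k, S, hS⟩ : ∃ (k : ℕ) (S : DSystem Z y k), S.delta < (n : ℕ∞) + 1 := by
    by_contra hcon
    push Not at hcon
    have h1 : ((n + 1 : ℕ) : ℕ∞) ≤ deltaZ Z y := le_iInf₂ fun k S => by exact_mod_cast hcon k S
    rw [hn] at h1
    exact absurd (Nat.cast_le.1 h1) (by omega)
  have hmono : ∀ a b : X, b ⤳ a → δ a ≤ δ b := fun a b hab => by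
    by_cases e : b = a
    · rw [e]
    · exact ((hδ b a hab e).1).le
  refine ⟨S.v 0, S.start_mem, ?_⟩
  have h0 : term S 0 ≤ (n : ℕ∞) := by
    refine ((Finset.le_sup (f := term S) (Finset.mem_univ 0)).trans ?_)
    refine le_trans ?_ (ENat.lt_add_one_iff (ENat.natCast_ne_top n) |>.1 hS)
    exact le_add_self
  have eC : (∑ j ∈ Finset.univ.filter (fun j : Fin (k + 1) => (0 : Fin (k + 1)) ≤ j), S.c j) =
      ((∑ j, (δ (S.w j) - δ (S.v j)).toNat : ℕ) : ℕ∞) := by
    rw [Finset.filter_true_of_mem fun j _ => Fin.zero_le j, Nat.cast_sum]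
    exact Finset.sum_congr rfl fun j _ => codimPt_eq hδ _
  have eB : (∑ j ∈ Finset.univ.filter (fun j : Fin k => (0 : Fin (k + 1)).val ≤ j.val), S.b j) =
      ((∑ j : Fin k, (δ (S.w j.castSucc) - δ (S.v j.succ)).toNat : ℕ) : ℕ∞) := by
    rw [show (Finset.univ.filter (fun j : Fin k => (0 : Fin (k + 1)).val ≤ j.val)) = Finset.univ from
      Finset.filter_true_of_mem fun j _ => Nat.zero_le _, Nat.cast_sum]
    exact Finset.sum_congr rfl fun j _ => codimPt_eq hδ _
  rw [term, eC, eB, tsub_le_iff_right, ← Nat.cast_add, Nat.cast_le] at h0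
  have h1 : ((∑ j, (δ (S.w j) - δ (S.v j)).toNat : ℕ) : ℤ) = ∑ j, (δ (S.w j) - δ (S.v j)) := by
    rw [Nat.cast_sum]
    exact Finset.sum_congr rfl fun j _ => Int.toNat_of_nonneg (by have := hmono _ _ (S.spec j); omega)
  have h2 : ((∑ j : Fin k, (δ (S.w j.castSucc) - δ (S.v j.succ)).toNat : ℕ) : ℤ) =
      ∑ j : Fin k, (δ (S.w j.castSucc) - δ (S.v j.succ)) := by
    rw [Nat.cast_sum]
    exact Finset.sum_congr rfl fun j _ => Int.toNat_of_nonneg (by have := hmono _ _ (S.spec_succ j); omega)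
  have h3 := (Int.ofNat_le.2 h0)
  push_cast at h3
  rw [Nat.cast_sum] at h1 h2
  rw [h1, h2, Finset.sum_sub_distrib, Finset.sum_sub_distrib, Fin.sum_univ_castSucc (fun j => δ (S.w j)),
    Fin.sum_univ_succ (fun j => δ (S.v j)), S.last_eq] at h3
  linarith

end Groth.Agent.Algz27
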