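import Groth.Agent.Lib.Algz27.ProIso27
import Mathlib.CategoryTheory.Abelian.Basic
import Mathlib.CategoryTheory.Subobject.Limits
import Mathlib.Algebra.Category.ModuleCat.Abelian
import Mathlib.AlgebraicGeometry.Modules.Tilde

/-!
Mittag-Leffler for systems of sections of canonically extendable formal modules.
-/

universe v v' u u'

open CategoryTheory CategoryTheory.Limits Opposite

namespace Groth.Agent.AlgzLib

theorem imageSubobject_le_of_comp_cokernel {C : Type u} [Category.{v} C] [Abelian C] {P Q T : C} (f : P ⟶ T)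
    (g : Q ⟶ T) (h : f ≫ cokernel.π g = 0) : imageSubobject f ≤ imageSubobject g :=
  imageSubobject_le_mk (image.ι g) f (kernel.lift (cokernel.π g) f h ≫ (Abelian.imageIsoImage g).hom) (by
    rw [Category.assoc]
    erw [IsImage.isoExt_hom_m]
    exact kernel.lift_ι _ _ _)

theorem isML_of_proIso_epi {C : Type u} [Category.{v} C] [Abelian C] {D : Type u'} [Category.{v'} D]
    [HasZeroMorphisms D] (T : C ⥤ D) [T.Faithful] [T.PreservesZeroMorphisms] (X : ℕᵒᵖ ⥤ C) {Y : ℕᵒᵖ ⥤ D}
    {m : ℕ → ℕ} (hm : Monotone m) (hle : ∀ n, n ≤ m n) (a : DerCA.reindex (X ⋙ T) hm ⟶ Y)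
    (ha : DerCA.IsProIso a) (hY : ∀ (n k : ℕ) (h : n ≤ k), Epi (ARSys.tr Y h)) : ARSys.IsML X := by
  intro n
  obtain ⟨k, hk, b, hb1, -⟩ := ha n
  have hepi : ∀ j, Epi (a.app (op j)) := fun j => by
    obtain ⟨l, hl, c, -, hc⟩ := ha j
    haveI := hY j l hl
    haveI : Epi (c ≫ a.app (op j)) := hc ▸ inferInstance
    exact epi_of_epi c _
  -- `X_p → X_q`
  let tX : ∀ {q p : ℕ}, q ≤ p → (X.obj (op p) ⟶ X.obj (op q)) := fun h => X.map (homOfLE h).op
  have tX_comp : ∀ {r q p : ℕ} (h : r ≤ q) (h' : q ≤ p), tX h' ≫ tX h = tX (h.trans h') := fun h h' => by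
    simp only [tX, ← X.map_comp, ← op_comp, homOfLE_comp]
  have key : ∀ j, k ≤ j → ∀ (h : n ≤ m j) (h0 : n ≤ m k), imageSubobject (tX h0) ≤ imageSubobject (tX h) := by
    intro j hkj h h0
    refine imageSubobject_le_of_comp_cokernel _ _ (T.map_injective ?_)
    rw [T.map_comp, T.map_zero]
    have h1 : a.app (op j) ≫ ARSys.tr Y hkj ≫ b = T.map (tX (hm (hk.trans hkj))) := by
      refine (Category.assoc _ _ _).symm.trans ((congrArg (· ≫ b) (a.naturality (homOfLE hkj).op).symm).trans ?_)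
      refine ((Category.assoc _ _ _).trans (congrArg (T.map (tX (hm hkj)) ≫ ·) hb1)).trans ?_
      exact (T.map_comp _ _).symm.trans (congrArg T.map (tX_comp (hm hk) (hm hkj)))
    have h2 : T.map (tX (hm (hk.trans hkj))) ≫ T.map (tX (hle n)) ≫ T.map (cokernel.π (tX h)) = 0 := by
      rw [← Category.assoc, ← T.map_comp, tX_comp, ← T.map_comp, cokernel.condition, T.map_zero]
    have h3 : b ≫ T.map (tX (hle n)) ≫ T.map (cokernel.π (tX h)) = 0 := by
      haveI := hY k j hkj
      haveI := hepi j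
      rw [← cancel_epi (a.app (op j) ≫ ARSys.tr Y hkj)]
      exact ((Category.assoc _ _ _).symm.trans (congrArg (· ≫ _)
        ((Category.assoc _ _ _).trans h1))).trans (h2.trans comp_zero.symm)
    have h4 : T.map (tX h0) = (a.app (op k) ≫ b) ≫ T.map (tX (hle n)) :=
      ((congrArg T.map (tX_comp (hle n) (hm hk))).symm.trans (T.map_comp _ _)).trans
        (congrArg (· ≫ _) hb1.symm)
    refine (congrArg (· ≫ _) h4).trans ?_
    refine ((Category.assoc _ _ _).trans (Category.assoc _ _ _)).trans ?_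
    exact (congrArg (a.app (op k) ≫ ·) h3).trans comp_zero
  have hmono : ∀ {q p : ℕ} (h : n ≤ q) (h' : q ≤ p), imageSubobject (tX (h.trans h')) ≤ imageSubobject (tX h) :=
    fun h h' => by rw [← tX_comp h h']; exact imageSubobject_comp_le _ _
  refine ⟨m k, fun s hs => ?_⟩
  have hmk : m k ≤ n + s := hs.trans (Nat.le_add_left s n)
  have h0 : n ≤ m k := hk.trans (hle k)
  have eq1 : ∀ s', m k ≤ n + s' → imageSubobject (ARSys.shiftMap X s' n) = imageSubobject (tX h0) := fun s' h' => by
    refine le_antisymm (hmono h0 h') ?_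
    exact (key (n + s') ((hle k).trans h') ((Nat.le_add_right n s').trans (hle _)) h0).trans
      (hmono (Nat.le_add_right n s') (hle _))
  rw [eq1 s hmk, eq1 (m k) (Nat.le_add_left _ n)]

end Groth.Agent.AlgzLib
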