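import Groth.Agent.Lib.Algz27.Extends27
import Groth.Agent.Lib.Algz27.Affine27

/-!
# Pro-isomorphisms induce isomorphisms of limits
-/

set_option autoImplicit false
universe v v' u

open CategoryTheory CategoryTheory.Limits AlgebraicGeometry Opposite

noncomputable section

namespace Groth.Agent.Algz27C

theorem exists_limit_iso {C : Type*} [Category* C] {X Y : ARSys.PS C} [HasLimit X] [HasLimit Y] {m : ℕ → ℕ}
    (hm : Monotone m) (hle : ∀ n, n ≤ m n) (a : DerCA.reindex X hm ⟶ Y) (ha : DerCA.IsProIso a) :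
    ∃ e : limit X ≅ limit Y, ∀ n, e.hom ≫ limit.π Y (op n) = limit.π X (op (m n)) ≫ a.app (op n) := by
  obtain ⟨k, hk, b, hb1, hb2⟩ : ∃ (k : ℕ → ℕ) (hk : ∀ n, n ≤ k n) (b : ∀ n, Y.obj (op (k n)) ⟶ X.obj (op (m n))),
      (∀ n, a.app (op (k n)) ≫ b n = ARSys.tr X (hm (hk n))) ∧ ∀ n, b n ≫ a.app (op n) = ARSys.tr Y (hk n) := by
    choose k hk b hb1 hb2 using ha
    exact ⟨k, hk, b, hb1, hb2⟩
  let α : ∀ n : ℕ, X.obj (op (m n)) ⟶ Y.obj (op n) := fun n => a.app (op n)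
  have hα : ∀ {n p : ℕ} (h : n ≤ p), ARSys.tr X (hm h) ≫ α n = α p ≫ ARSys.tr Y h := fun h => a.naturality (homOfLE h).op
  have hb1 : ∀ n, α (k n) ≫ b n = ARSys.tr X (hm (hk n)) := hb1
  have hb2 : ∀ n, b n ≫ α n = ARSys.tr Y (hk n) := hb2
  suffices h : ∃ e : limit X ≅ limit Y, ∀ n, e.hom ≫ limit.π Y (op n) = limit.π X (op (m n)) ≫ α n from h
  let tX : ∀ {q p : ℕ}, q ≤ p → (X.obj (op p) ⟶ X.obj (op q)) := fun h => ARSys.tr X h
  have tX_comp : ∀ {r q p : ℕ} (h : r ≤ q) (h' : q ≤ p), tX h' ≫ tX h = tX (h.trans h') := fun h h' =>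
    (X.map_comp _ _).symm
  have hπX : ∀ {q p : ℕ} (h : q ≤ p), limit.π X (op p) ≫ tX h = limit.π X (op q) := fun h => limit.w X _
  have hπY : ∀ {q p : ℕ} (h : q ≤ p), limit.π Y (op p) ≫ ARSys.tr Y h = limit.π Y (op q) := fun h => limit.w Y _
  let c : ∀ n : ℕ, limit Y ⟶ X.obj (op n) := fun n => limit.π Y (op (k n)) ≫ b n ≫ tX (hle n)
  have key : ∀ n M (hM : k n ≤ M),
      c n = limit.π Y (op (k M)) ≫ b M ≫ tX ((hle n).trans (hm ((hk n).trans hM))) := by
    intro n M hM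
    have h1 : limit.π Y (op (k n)) = limit.π Y (op (k M)) ≫ b M ≫ tX (hm hM) ≫ α (k n) := by
      show _ = _ ≫ _ ≫ ARSys.tr X (hm hM) ≫ α (k n)
      rw [hα hM, reassoc_of% (hb2 M), reassoc_of% (hπY (hk M)), hπY hM]
    show limit.π Y (op (k n)) ≫ b n ≫ tX (hle n) = _
    rw [h1]
    simp only [Category.assoc]
    rw [reassoc_of% (hb1 n)]
    refine congrArg (fun t => limit.π Y (op (k M)) ≫ b M ≫ t) ?_
    refine Eq.trans ?_ (tX_comp (hle n) (hm ((hk n).trans hM)))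
    refine (Category.assoc _ _ _).symm.trans (congrArg (· ≫ tX (hle n)) ?_)
    exact tX_comp (hm (hk n)) (hm hM)
  have hc : ∀ n, c (n + 1) ≫ tX (Nat.le_succ n) = c n := by
    intro n
    rw [key (n + 1) (max (k n) (k (n + 1))) (le_max_right _ _), key n (max (k n) (k (n + 1))) (le_max_left _ _),
      Category.assoc, Category.assoc, tX_comp]
  let cone : Cone X :=
    { pt := limit Y
      π := NatTrans.ofOpSequence (F := (Functor.const ℕᵒᵖ).obj (limit Y)) c fun n =>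
        (Category.id_comp _).trans (hc n).symm }
  let coneY : Cone Y :=
    { pt := limit X
      π := NatTrans.ofOpSequence (F := (Functor.const ℕᵒᵖ).obj (limit X))
        (fun n => limit.π X (op (m n)) ≫ α n) fun n => by
        refine (Category.id_comp _).trans ?_
        refine Eq.trans ?_ (Category.assoc _ _ _).symm
        refine Eq.trans ?_ (congrArg (_ ≫ ·) (hα (Nat.le_succ n)))
        exact (congrArg (· ≫ α n) (hπX (hm (Nat.le_succ n))).symm).trans (Category.assoc _ _ _) }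
  let F := limit.lift Y coneY
  let Gc := limit.lift X cone
  have hF : ∀ n, F ≫ limit.π Y (op n) = limit.π X (op (m n)) ≫ α n := fun n => limit.lift_π _ _
  have hG : ∀ n, Gc ≫ limit.π X (op n) = c n := fun n => limit.lift_π _ _
  refine ⟨⟨F, Gc, ?_, ?_⟩, hF⟩
  · refine limit.hom_ext fun ⟨n⟩ => ?_
    rw [Category.assoc, hG, Category.id_comp]
    show F ≫ limit.π Y (op (k n)) ≫ b n ≫ tX (hle n) = _
    rw [← Category.assoc, hF, Category.assoc, reassoc_of% (hb1 n)]
    exact (congrArg (limit.π X (op (m (k n))) ≫ ·) (tX_comp (hle n) (hm (hk n)))).trans (hπX _)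
  · refine limit.hom_ext fun ⟨n⟩ => ?_
    rw [Category.assoc, hF, Category.id_comp, ← Category.assoc, hG]
    rw [key (m n) (max (k (m n)) n) (le_max_left _ _), Category.assoc, Category.assoc]
    show _ ≫ _ ≫ ARSys.tr X (hm (le_max_right (k (m n)) n)) ≫ α n = _
    rw [hα (le_max_right (k (m n)) n), reassoc_of% (hb2 _), reassoc_of% (hπY (hk _)), hπY]

attribute [local instance] selfOver

theorem mem_smul_top_of_iso {R : Type u} [CommRing R] {M N : ModuleCat.{u} R} (e : M ≅ N) (J : Ideal R) (x : M)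
    (h : e.hom x ∈ (J • ⊤ : Submodule R N)) : x ∈ (J • ⊤ : Submodule R M) := by
  have h2 := Submodule.mem_map_of_mem (f := e.inv.hom) h
  rw [Submodule.map_smul''] at h2
  have h3 := Submodule.smul_mono (le_refl J) le_top h2
  have h4 : e.inv (e.hom x) = x := congrArg (fun t : M ⟶ M => t x) e.hom_inv_id
  rwa [← h4]

theorem ker_limit_π_le {R : Type u} [CommRing R] (J : Ideal R) {X Y : ℕᵒᵖ ⥤ ModuleCat.{u} R} {L : ModuleCat.{u} R}
    {m : ℕ} {k : ℕ} (e : limit X ≅ limit Y) (α : X.obj (op m) ⟶ Y.obj (op k))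
    (he : e.hom ≫ limit.π Y (op k) = limit.π X (op m) ≫ α) (e' : L ≅ limit Y) (π' : L ⟶ Y.obj (op k))
    (he' : e'.inv ≫ π' = limit.π Y (op k)) (hker : LinearMap.ker π'.hom = (J • ⊤ : Submodule R L)) :
    LinearMap.ker (limit.π X (op m)).hom ≤ J • (⊤ : Submodule R ↑(limit X)) := fun x hx => by
  refine mem_smul_top_of_iso (e ≪≫ e'.symm) J x (hker.le ?_)
  have h : (e ≪≫ e'.symm).hom ≫ π' = limit.π X (op m) ≫ α := by
    rw [Iso.trans_hom, Category.assoc, Iso.symm_hom, he', he]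
  refine (congrArg (fun t : limit X ⟶ Y.obj (op k) => t x) h).trans ?_
  show α.hom ((limit.π X (op m)).hom x) = 0
  rw [LinearMap.mem_ker.1 hx, map_zero]

theorem isProIsomorphic_sectMod {A : Type u} [CommRing A] (U : (Spec (CommRingCat.of A)).Opens)
    (G : ℕᵒᵖ ⥤ (U : Scheme.{u}).Modules) {G' : ℕᵒᵖ ⥤ (Spec (CommRingCat.of A)).Modules}
    (h : Algz.IsProIsomorphic (Algz.sectSys A U G) G') :
    Algz.IsProIsomorphic (Algz.sectMod A U G) (G' ⋙ moduleSpecΓFunctor (R := CommRingCat.of A)) :=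
  isProIsomorphic_of_iso
    ((Functor.associator _ _ _ ≪≫ Functor.isoWhiskerLeft (Algz.sectMod A U G)
      (tilde.toTildeΓNatIso (R := CommRingCat.of A)).symm ≪≫ Functor.rightUnitor _))
    (isProIsomorphic_map (moduleSpecΓFunctor (R := CommRingCat.of A)) h)

theorem exists_ker_limit_π_le {A : Type u} [CommRing A] [IsNoetherianRing A] (I : Ideal A)
    {X : ℕᵒᵖ ⥤ ModuleCat.{u} A} {G' : ℕᵒᵖ ⥤ (Spec (CommRingCat.of A)).Modules}
    (hq : ∀ n, Coh.IsQCoh (G'.obj (op n)))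
    (hG : ∀ n, ∃ h : Formal.smulFamily (I ^ (n + 1)) (G'.obj (op (n + 1))) ≫ G'.map (homOfLE (Nat.le_succ n)).op = 0,
      IsIso (cokernel.desc _ _ h))
    (h : Algz.IsProIsomorphic X (G' ⋙ moduleSpecΓFunctor (R := CommRingCat.of A))) (k : ℕ) :
    ∃ n : ℕ, LinearMap.ker (limit.π X (op n)).hom ≤ I ^ k • (⊤ : Submodule A ↑(limit X)) := by
  haveI : (moduleSpecΓFunctor (R := CommRingCat.of A)).IsRightAdjoint :=
    (tilde.adjunction (R := CommRingCat.of A)).isRightAdjoint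
  obtain ⟨m, hm, hle, a, ha⟩ := h
  obtain ⟨e, he⟩ := exists_limit_iso hm hle a ha
  have hs := sys_secΓ I hq hG
  refine ⟨m k, le_trans (ker_limit_π_le (I ^ (k + 1)) e (a.app (op k)) (he k)
    (preservesLimitIso (moduleSpecΓFunctor (R := CommRingCat.of A)) G') _
    (preservesLimitIso_inv_π _ _ _) (hs.ker_eq (IsNoetherian.noetherian I) k))
    (Submodule.smul_mono (Ideal.pow_le_pow_right (Nat.le_succ k)) le_rfl)⟩

end Groth.Agent.Algz27C
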