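import Groth.Agent.Lib.Algz27.Extends27
import Groth.Agent.Lib.Algz27.MLMod27

/-!
# Limit sections generate under the Mittag-Leffler condition
-/

set_option autoImplicit false
universe u

open CategoryTheory CategoryTheory.Limits AlgebraicGeometry Opposite

noncomputable section

namespace Groth.Agent.Algz27C

open Groth.Agent.FormalH7

theorem epi_of_range_eq {R : Type u} [CommRing R] {D : Type*} [Category* D] (T : ModuleCat.{u} R ⥤ D)
    [T.PreservesEpimorphisms] {L P N : ModuleCat.{u} R} (f₁ : L ⟶ N) (f₂ : P ⟶ N)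
    (hr : LinearMap.range f₁.hom = LinearMap.range f₂.hom) {Q : D} (Φ : T.obj N ⟶ Q) (h : Epi (T.map f₂ ≫ Φ)) :
    Epi (T.map f₁ ≫ Φ) := by
  let S := ModuleCat.of R (LinearMap.range f₁.hom)
  let ι : S ⟶ N := ModuleCat.ofHom (LinearMap.range f₁.hom).subtype
  let q₁ : L ⟶ S := ModuleCat.ofHom f₁.hom.rangeRestrict
  let q₂ : P ⟶ S := ModuleCat.ofHom (f₂.hom.codRestrict (LinearMap.range f₁.hom) fun x => hr ▸ LinearMap.mem_range_self f₂.hom x)
  haveI : Epi q₁ := (ModuleCat.epi_iff_surjective q₁).2 f₁.hom.surjective_rangeRestrict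
  have h₁ : q₁ ≫ ι = f₁ := rfl
  have h₂ : q₂ ≫ ι = f₂ := rfl
  rw [← h₂, Functor.map_comp, Category.assoc] at h
  haveI : Epi (T.map ι ≫ Φ) := @epi_of_epi _ _ _ _ _ (T.map q₂) (T.map ι ≫ Φ) h
  rw [← h₁, Functor.map_comp, Category.assoc]
  exact epi_comp _ _

variable {R : CommRingCat.{u}} (U : (Spec R).Opens)

/-- `tilde` restricted to an open. -/
abbrev tildeRes : ModuleCat.{u} R ⥤ (U : Scheme.{u}).Modules :=
  tilde.functor R ⋙ Scheme.Modules.restrictFunctor U.ι

theorem preservesEpimorphisms_tildeRes : (tildeRes U).PreservesEpimorphisms :=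
  Functor.preservesEpimorphisms_of_adjunction ((tilde.adjunction (R := R)).comp (Scheme.Modules.restrictAdjunction U.ι))

/-- Sections over `U` of a module on `U`, as a module over the ring. -/
abbrev sectU : (U : Scheme.{u}).Modules ⥤ ModuleCat.{u} R :=
  Scheme.Modules.pushforward U.ι ⋙ moduleSpecΓFunctor

/-- The evaluation map. -/
def evU : sectU U ⋙ tildeRes U ⟶ 𝟭 _ :=
  ((tilde.adjunction (R := R)).comp (Scheme.Modules.restrictAdjunction U.ι)).counit

theorem isIso_evU [QuasiCompact U.ι] {F : (U : Scheme.{u}).Modules} (hF : Coh.IsQCoh F) : IsIso ((evU U).app F) := by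
  have h0 : IsIso ((Scheme.Modules.pushforward U.ι).obj F).fromTildeΓ :=
    @Scheme.Modules.isIso_fromTildeΓ_of_isQuasicoherent R _ (M1.isQCoh_push U.ι hF)
  have h : (evU U).app F = (Scheme.Modules.restrictFunctor U.ι).map ((Scheme.Modules.pushforward U.ι).obj F).fromTildeΓ ≫
      (Scheme.Modules.restrictAdjunction U.ι).counit.app F := Adjunction.comp_counit_app _ _ F
  exact h ▸ @IsIso.comp_isIso _ _ _ _ _ _ _ (@Functor.map_isIso _ _ _ _ _ _ _ _ h0) inferInstance

theorem homEquiv_symm_eq {M : ModuleCat.{u} R} {F : (U : Scheme.{u}).Modules} (π : M ⟶ (sectU U).obj F) :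
    ((Scheme.Modules.restrictAdjunction U.ι).homEquiv _ F).symm
      (((tilde.adjunction (R := R)).homEquiv M ((Scheme.Modules.pushforward U.ι).obj F)).symm π) =
      (tildeRes U).map π ≫ (evU U).app F := by
  have hev : (evU U).app F = (Scheme.Modules.restrictFunctor U.ι).map ((tilde.adjunction (R := R)).counit.app
      ((Scheme.Modules.pushforward U.ι).obj F)) ≫ (Scheme.Modules.restrictAdjunction U.ι).counit.app F :=
    Adjunction.comp_counit_app _ _ F
  rw [Adjunction.homEquiv_counit, Adjunction.homEquiv_counit, hev]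
  exact (congrArg (· ≫ _) (Functor.map_comp _ _ _)).trans (Category.assoc _ _ _)

theorem epi_limit_sections [QuasiCompact U.ι] (G : ℕᵒᵖ ⥤ (U : Scheme.{u}).Modules) (hq : ∀ n, Coh.IsQCoh (G.obj (op n)))
    (hG : ∀ {n m : ℕ} (h : n ≤ m), Epi (G.map (homOfLE h).op)) (hML : ARSys.IsML (G ⋙ sectU U)) (n : ℕ) :
    Epi ((tildeRes U).map (limit.π (G ⋙ sectU U) (op n)) ≫ (evU U).app (G.obj (op n))) := by
  obtain ⟨p, hp, hs⟩ := exists_limit_π_range _ hML n
  haveI := preservesEpimorphisms_tildeRes U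
  refine epi_of_range_eq (tildeRes U) _ ((sectU U).map (G.map (homOfLE hp).op)) (hs p hp le_rfl).symm _ ?_
  have hnat : (tildeRes U).map ((sectU U).map (G.map (homOfLE hp).op)) ≫ (evU U).app (G.obj (op n)) =
      (evU U).app (G.obj (op p)) ≫ G.map (homOfLE hp).op := (evU U).naturality (G.map (homOfLE hp).op)
  rw [hnat]
  haveI := isIso_evU U (hq p)
  haveI := hG hp
  exact epi_comp _ _

end Groth.Agent.Algz27C
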